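import Cfsg.Agent.Lib.FsTw.Tbw

/-!
Fibre products, and extensions of elementary abelian groups.
-/

set_option autoImplicit false
set_option linter.unusedSectionVars false

namespace CfsgLib.FsTw

open Cfsg CfsgLib.Char Matrix
open scoped ComplexOrder

variable {X : Type*} [Group X] [Finite X] {s : X →* ℤˣ}

theorem good_prod {X₁ X₂ : Type*} [Group X₁] [Finite X₁] [Group X₂] [Finite X₂] {s₁ : X₁ →* ℤˣ}
    {s₂ : X₂ →* ℤˣ} (h₁ : Good s₁) (h₂ : Good s₂) (p₁ : X →* X₁) (p₂ : X →* X₂)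
    (e₁ : ∀ x, s₁ (p₁ x) = s x) (e₂ : ∀ x, s₂ (p₂ x) = s x)
    (inj : ∀ x, p₁ x = 1 → p₂ x = 1 → x = 1)
    (sur : ∀ g₁ g₂, s₁ g₁ = 1 → s₂ g₂ = 1 → ∃ x, p₁ x = g₁ ∧ p₂ x = g₂) : Good s := by
  classical
  intro ψ hψ
  by_cases h0 : ∀ x, s x = 1
  · rw [eps_of_pos h0]
  obtain ⟨τ, hτ⟩ := not_forall.1 h0
  have hτ' := s_ne.1 hτ
  have := Fintype.ofFinite s.ker
  have := Fintype.ofFinite s₁.ker
  have := Fintype.ofFinite s₂.ker
  let q : s.ker →* s₁.ker × s₂.ker :=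
    ((p₁.comp s.ker.subtype).codRestrict _ fun x => (e₁ x).trans x.2).prod
      ((p₂.comp s.ker.subtype).codRestrict _ fun x => (e₂ x).trans x.2)
  have hq : Function.Bijective q := ⟨(injective_iff_map_eq_one q).2 fun x hx => Subtype.ext
    (inj x (congrArg (fun y => (y.1 : X₁)) hx) (congrArg (fun y => (y.2 : X₂)) hx)), fun g => by
      obtain ⟨x, h1, h2⟩ := sur g.1 g.2 g.1.2 g.2.2
      exact ⟨⟨x, (e₁ x).symm.trans (h1 ▸ g.1.2)⟩, Prod.ext (Subtype.ext h1) (Subtype.ext h2)⟩⟩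
  let e := MulEquiv.ofBijective q hq
  let Θ : s₁.ker × s₂.ker → ℂ := fun g => ψ (e.symm g)
  have hΘ : IsCharacter _ Θ := isCharacter_comp e.symm.toMonoidHom hψ
  let χ : IrrCharacter s₂.ker → s₁.ker → ℂ := fun φ g => classInner (fun y => Θ (g, y)) φ
  have hχ : ∀ φ, IsCharacter _ (χ φ) := fun φ => by
    simpa [χ, classInner_def] using isCharacter_avg (isCharacter_mul hΘ (isCharacter_conj
      (isCharacter_comp (MonoidHom.snd s₁.ker s₂.ker) (irr_isCharacter φ)))) (MonoidHom.inr _ _) (MonoidHom.inl _ _) 1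
      fun y => ⟨Equiv.refl _, fun n => ⟨by simp, rfl⟩⟩
  have hsum : ∀ g, Θ g = ∑ φ : IrrCharacter s₂.ker, χ φ g.1 * φ.1 g.2 := fun g =>
    classFun_apply_eq_sum (f := fun y => Θ (g.1, y)) (fun a b => by
      simpa using isClassFunction_of_isCharacter hΘ (g.1, a) (1, b)) g.2
  have key : eps s ψ = ∑ φ : IrrCharacter s₂.ker,
      eps s₁ (extendByZero _ (χ φ)) * eps s₂ (extendByZero _ φ.1) := by
    simp only [eps_eq_sum_ker hτ', eps_eq_sum_ker ((e₁ τ).trans hτ'), eps_eq_sum_ker ((e₂ τ).trans hτ'),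
      Finset.sum_mul_sum]
    rw [Finset.sum_congr rfl fun φ _ => (Fintype.sum_prod_type' _).symm, Finset.sum_comm]
    refine Fintype.sum_bijective q hq _ _ fun g => ?_
    have h1 := hsum (e ⟨g * τ * (g * τ), s_sq s _⟩)
    simp only [Θ, MulEquiv.symm_apply_apply] at h1
    rw [h1]
    refine Finset.sum_congr rfl fun φ _ => ?_
    rw [← extendByZero_coe _ (χ φ), ← extendByZero_coe _ φ.1]
    congr 2
    · exact (map_mul p₁ _ _).trans (by rw [map_mul]; rfl)
    · exact (map_mul p₂ _ _).trans (by rw [map_mul]; rfl)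
  rw [key]
  exact Finset.sum_nonneg fun φ _ => mul_nonneg (h₁ _ (by simpa [Ch, extendByZero_coe] using hχ φ))
    (h₂ _ (by simpa [Ch, extendByZero_coe] using irr_isCharacter φ))

/-- the sign of an element of `ZMod 2` -/
noncomputable def sgn2 (z : ZMod 2) : ℂ := if z = 0 then 1 else -1

theorem sgn2_add (a b : ZMod 2) : sgn2 (a + b) = sgn2 a * sgn2 b := by
  have h : ∀ z : ZMod 2, z = 0 ∨ z = 1 := by decide
  have h1 : (1 + 1 : ZMod 2) = 0 := rfl
  rcases h a with rfl | rfl <;> rcases h b with rfl | rfl <;> simp [sgn2, h1]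

theorem sgn2_zero : sgn2 0 = 1 := if_pos rfl

theorem sgn2_mul_self (a : ZMod 2) : sgn2 a * sgn2 a = 1 := by
  unfold sgn2
  split_ifs <;> simp

theorem sgn2_eq_one {a : ZMod 2} (h : sgn2 a = 1) : a = 0 := by
  by_contra h0
  rw [sgn2, if_neg h0] at h
  norm_num at h

theorem sum_sgn2 {I : Type*} [AddCommGroup I] [Fintype I] {f : I →+ ZMod 2} (hf : f ≠ 0) : ∑ y, sgn2 (f y) = 0 := by
  obtain ⟨y₀, h⟩ := not_forall.1 fun h => hf (AddMonoidHom.ext h)
  have h1 := Equiv.sum_comp (Equiv.addRight y₀) fun y => sgn2 (f y)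
  simp only [Equiv.coe_addRight, map_add, sgn2_add, ← Finset.sum_mul] at h1
  rw [show sgn2 (f y₀) = -1 from if_neg h] at h1
  linear_combination -h1 / 2

theorem Semi.lam_one {I : Type*} [AddCommGroup I] {N L : Subgroup X} {lam : X → I →+ ZMod 2}
    (h : Semi s N L lam) : lam 1 = 0 := by
  simpa using h.mul 1 N.one_mem 1 N.one_mem

theorem Semi.bij {I : Type*} [AddCommGroup I] {N L : Subgroup X} {lam : X → I →+ ZMod 2}
    (h : Semi s N L lam) : Function.Bijective fun x : L × N => (x.2 : X) * x.1 := by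
  refine ⟨fun x y e => ?_, fun x => ?_⟩
  · have e' : (x.2 : X) * x.1 = y.2 * y.1 := e
    have h1 : ((y.2⁻¹ * x.2 : N) : X) = ((y.1 * x.1⁻¹ : L) : X) := by
      simp only [Subgroup.coe_mul, Subgroup.coe_inv]
      rw [inv_mul_eq_iff_eq_mul, ← mul_assoc, ← e', mul_inv_cancel_right]
    have h2 := h.disj _ (y.2⁻¹ * x.2).2 (h1 ▸ (y.1 * x.1⁻¹).2)
    refine Prod.ext (mul_inv_eq_one.1 (Subtype.ext (h1.symm.trans h2))).symm
      (inv_mul_eq_one.1 (Subtype.ext h2)).symm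
  · obtain ⟨n, hn, l, hl, rfl⟩ := h.dec x
    exact ⟨(⟨l, hl⟩, ⟨n, hn⟩), rfl⟩

theorem Semi.eps_sum [Fintype X] {I : Type*} [AddCommGroup I] {N L : Subgroup X} [Fintype N] [Fintype L]
    {lam : X → I →+ ZMod 2} (h : Semi s N L lam) (ψ : X → ℂ) :
    eps s ψ = ∑ l : L, if s l = 1 then 0 else ∑ n : N, ψ (n * (l * n * (l : X)⁻¹) * (l * l)) := by
  rw [eps_eq, ← Fintype.sum_bijective _ h.bij _ _ fun _ => rfl, Fintype.sum_prod_type]
  refine Finset.sum_congr rfl fun l _ => ?_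
  simp only [map_mul, h.sN _ (Subtype.property _), one_mul]
  split_ifs
  · simp
  · exact Finset.sum_congr rfl fun n _ => congrArg ψ (by group)

theorem Semi.cf {I : Type*} [AddCommGroup I] [Finite I] {N L : Subgroup X} {lam : X → I →+ ZMod 2}
    (h : Semi s N L lam) {Y : I → Subgroup X}
    (hY : ∀ y l, l ∈ Y y ↔ l ∈ L ∧ ∀ n ∈ N, lam (l * n * l⁻¹) y = lam n y)
    (gY : ∀ y, GoodS s (Y y)) {ψ : X → ℂ} (hψ : Ch s ψ)
    (hz : ∀ z ∈ N, lam z = 0 → ∀ g, s g = 1 → ψ (g * z) = ψ g) : 0 ≤ eps s ψ := by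
  classical
  have := Fintype.ofFinite X
  have := Fintype.ofFinite I
  have := h.norm
  let χ : I → N →* ℂ := fun y =>
    { toFun n := sgn2 (lam n y)
      map_one' := by simp [h.lam_one, sgn2_zero]
      map_mul' n m := by rw [Subgroup.coe_mul, h.mul _ n.2 _ m.2, AddMonoidHom.add_apply, sgn2_add] }
  have hχ : ∀ y n, χ y n = sgn2 (lam n y) := fun _ _ => rfl
  let Ψ : I → X → ℂ := fun y g => (Nat.card N : ℂ)⁻¹ * ∑ n : N, χ y n * ψ (n * g)
  have hN : (Nat.card N : ℂ) ≠ 0 := Nat.cast_ne_zero.2 Nat.card_pos.ne'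
  have h1 : ∀ y, Ch (s.comp (Y y).subtype) fun l => Ψ y l := fun y =>
    isCharacter_avg hψ (N.subtype.codRestrict s.ker fun n => h.sN n n.2)
      (((Y y).subtype.comp (Subgroup.subtype _)).codRestrict s.ker fun l => l.2) (χ y) fun l =>
        ⟨(MulAut.conjNormal (l.1 : X)).toEquiv, fun n => ⟨Subtype.ext (inv_mul_cancel_right _ (l.1 : X)).symm,
          congrArg sgn2 (((hY y l.1).1 l.1.2).2 n n.2)⟩⟩
  have h2 : ∀ y (m : N) g, Ψ y (m * g) = χ y m * Ψ y g := fun y m g => by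
    simp only [Ψ]
    rw [mul_left_comm, Finset.mul_sum _ _ (χ y m)]
    refine congrArg _ (Fintype.sum_equiv (Equiv.mulRight m) _ _ fun n => ?_)
    rw [Equiv.coe_mulRight, map_mul, Subgroup.coe_mul, mul_assoc (n : X), hχ y m]
    linear_combination (-χ y n * ψ (n * (m * g))) * sgn2_mul_self (lam m y)
  have h3 : ∀ y, eps s (Ψ y) = Nat.card N * eps (s.comp (Y y).subtype) fun l => Ψ y l := fun y => by
    rw [h.eps_sum, eps_eq, Finset.mul_sum]
    refine (Tb.sum_sub L fun l => if s l = 1 then 0 else ∑ n : N, Ψ y (n * (l * n * l⁻¹) * (l * l))).trans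
      (Eq.trans (Finset.sum_congr rfl fun l _ => ?_)
        (Tb.sum_sub (Y y) fun l => Nat.card N * if s l = 1 then 0 else Ψ y (l * l)).symm)
    have h4 : ∑ n : N, Ψ y (n * (l * n * l⁻¹) * (l * l)) =
        (∑ n : N, (χ y * (χ y).comp (MulAut.conjNormal l).toMonoidHom) n) * Ψ y (l * l) := by
      rw [Finset.sum_mul]
      exact Finset.sum_congr rfl fun n _ => (h2 y (n * MulAut.conjNormal l n) _).trans (by rw [map_mul]; rfl)
    rw [h4]
    by_cases hl : l ∈ Y y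
    · rw [if_pos hl, if_pos ((hY y l).1 hl).1, Finset.sum_congr rfl (g := fun _ => 1)]
      · split_ifs <;> simp
      · intro n _
        rw [← sgn2_mul_self (lam n y)]
        exact congrArg (_ * sgn2 ·) (((hY y l).1 hl).2 n n.2)
    · rw [if_neg hl]
      split_ifs with h5
      · rfl
      · rw [sum_hom_units_eq_zero, zero_mul]
        refine fun e => hl ((hY y l).2 ⟨h5, fun n hn => ?_⟩)
        have h6 : sgn2 (lam n y) * sgn2 (lam (l * n * l⁻¹) y) = 1 := DFunLike.congr_fun e ⟨n, hn⟩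
        rw [← sgn2_add] at h6
        rw [← neg_eq_of_add_eq_zero_right (sgn2_eq_one h6), ZMod.neg_eq_self_mod_two]
      · rfl
  set k := (Finset.univ.filter fun n : N => lam n = 0).card with hk
  have h4 : ∀ g, s g = 1 → ∑ y, Ψ y g = (Nat.card N : ℂ)⁻¹ * ((k * Fintype.card I : ℕ) * ψ g) := fun g hg => by
    simp only [Ψ]
    rw [← Finset.mul_sum, Finset.sum_comm]
    congr 1
    rw [Finset.sum_congr rfl (g := fun n : N => if lam n = 0 then Fintype.card I * ψ g else 0), ← Finset.sum_filter,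
      Finset.sum_const, nsmul_eq_mul, Nat.cast_mul, mul_assoc]
    intro n _
    rw [← Finset.sum_mul]
    split_ifs with h5
    · rw [← (h.cen n n.2 h5).2, hz n n.2 h5 g hg]
      simp [hχ, h5, sgn2_zero]
    · rw [show ∑ y, χ y n = 0 from sum_sgn2 h5, zero_mul]
  have h5 : ((k * Fintype.card I : ℕ) : ℂ) * eps s ψ = Nat.card N * ∑ y, eps s (Ψ y) := by
    simp only [eps_eq]
    rw [Finset.sum_comm, Finset.mul_sum, Finset.mul_sum]
    refine Finset.sum_congr rfl fun x _ => ?_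
    split_ifs
    · simp
    · rw [h4 _ (s_sq s x), mul_inv_cancel_left₀ hN]
  refine nonneg_of_nat_mul (n := k * Fintype.card I) (mul_ne_zero (Finset.card_ne_zero.2 ⟨1, by simp [h.lam_one]⟩)
    Fintype.card_ne_zero) ?_
  rw [h5]
  exact mul_nonneg (Nat.cast_nonneg _) (Finset.sum_nonneg fun y _ => (h3 y).symm ▸
    mul_nonneg (Nat.cast_nonneg _) (gY y _ (h1 y)))

end CfsgLib.FsTw
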