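import Cfsg.Agent.Lib.FsTw.Geo
import Cfsg.Agent.Lib.FsTw.Prod

/-!
Orthogonal decompositions.
-/

set_option autoImplicit false
set_option linter.unusedSectionVars false

namespace CfsgLib.FsTw

open QuadraticMap CfsgLib.Orth

universe u

variable {V R : Type u} [AddCommGroup V] [Module (ZMod 2) V] [CommRing R] [Algebra (ZMod 2) R]
  [Module R V] [IsScalarTower (ZMod 2) R V] [Finite V] {Q : QuadraticForm (ZMod 2) V}
  {σ : R →+* R}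

namespace Dat

variable (D : Dat Q σ) {P : Submodule R V}

theorem glue (hP : Nd Q P) {g₁ : OG (FsTw.res Q P) × ℤˣ} {g₂ : OG (FsTw.res Q (D.perp P)) × ℤˣ}
    (h₁ : g₁ ∈ (D.res hP).Gam) (h₂ : g₂ ∈ (D.res (D.nd_perp hP)).Gam) (h : g₁.2 = g₂.2) :
    ∃ g ∈ D.Gam, g.2 = g₁.2 ∧ (∀ x : P, g.1.1 x = g₁.1.1 x) ∧
      ∀ x : D.perp P, g.1.1 x = g₂.1.1 x := by
  have hc : IsCompl P (D.perp P) := ⟨Submodule.disjoint_def.2 hP, codisjoint_iff.2 (eq_top_iff.2 fun x _ =>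
    let ⟨p, a, w, b, e⟩ := D.exists_add_perp hP x; e ▸ Submodule.add_mem_sup a b)⟩
  let e := (P.prodEquivOfIsCompl _ hc).restrictScalars (ZMod 2)
  let f := ((P.subtype.restrictScalars (ZMod 2) ∘ₗ g₁.1.1.toLinearMap).coprod
    ((D.perp P).subtype.restrictScalars (ZMod 2) ∘ₗ g₂.1.1.toLinearMap)) ∘ₗ e.symm.toLinearMap
  have hf : ∀ (p : P) (w : D.perp P), f (p + w) = g₁.1.1 p + g₂.1.1 w := fun p w =>
    congrArg (LinearMap.coprod _ _) (e.symm_apply_eq.2 (show _ = e (p, w) from rfl))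
  have hQ : ∀ (p : P) (w : D.perp P), Q (p + w) = Q p + Q w := fun p w => by
    rw [Q_add, polar_comm, w.2 _ p.2, add_zero]
  refine ⟨(OG.ofMap D.nd f fun x => ?_, g₁.2), fun r x => ?_, rfl, fun x => ?_, fun x => ?_⟩
  · obtain ⟨p, a, w, b, rfl⟩ := D.exists_add_perp hP x
    exact (congrArg Q (hf ⟨p, a⟩ ⟨w, b⟩)).trans ((hQ _ _).trans ((congrArg₂ (· + ·) (OG.map_Q g₁.1 _)
      (OG.map_Q g₂.1 _)).trans (hQ ⟨p, a⟩ ⟨w, b⟩).symm))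
  · obtain ⟨p, a, w, b, rfl⟩ := D.exists_add_perp hP x
    have := hf (r • ⟨p, a⟩) (r • ⟨w, b⟩)
    rw [h₁, h₂, ← h] at this
    rw [OG.ofMap_apply, OG.ofMap_apply, hf ⟨p, a⟩ ⟨w, b⟩, smul_add, smul_add]
    exact this
  · simpa [OG.ofMap_apply] using hf x 0
  · simpa [OG.ofMap_apply] using hf 0 x

include D in
theorem exists_res (hP : Nd Q P) {H : Subgroup (OG Q × ℤˣ)} (h : ∀ g ∈ H, ∀ x ∈ P, g.1.1 x ∈ P) :
    ∃ p : H →* OG (FsTw.res Q P) × ℤˣ, ∀ g, (p g).2 = g.1.2 ∧ ∀ x : P, ((p g).1.1 x : V) = g.1.1.1 x :=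
  ⟨MonoidHom.mk' (fun g => (OG.ofMap (D.res hP).nd (((g.1.1.1.toLinearMap ∘ₗ P.subtype.restrictScalars
    (ZMod 2)).codRestrict (P.restrictScalars (ZMod 2)) fun x => h g g.2 x x.2)) fun x => OG.map_Q g.1.1 x, g.1.2))
    fun _ _ => Prod.ext (OG.ext fun _ => rfl) rfl, fun _ => ⟨rfl, fun _ => rfl⟩⟩

theorem map_perp {H : Subgroup (OG Q × ℤˣ)} (h : ∀ g ∈ H, ∀ x ∈ P, g.1.1 x ∈ P) :
    ∀ g ∈ H, ∀ x ∈ D.perp P, g.1.1 x ∈ D.perp P := fun g hg x hx y hy => by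
  rw [OG.polar_apply_left]; exact hx _ (h g⁻¹ (inv_mem hg) y hy)

theorem dec (hP : Nd Q P) {H : Subgroup (OG Q × ℤˣ)} (h : ∀ g ∈ H, ∀ x ∈ P, g.1.1 x ∈ P)
    {H₁ : Subgroup (OG (FsTw.res Q P) × ℤˣ)} {H₂ : Subgroup (OG (FsTw.res Q (D.perp P)) × ℤˣ)}
    (l₁ : H₁ ≤ (D.res hP).Gam) (l₂ : H₂ ≤ (D.res (D.nd_perp hP)).Gam)
    (r₁ : ∀ g ∈ H, ∀ g₁ : OG (FsTw.res Q P) × ℤˣ, g₁.2 = g.2 → (∀ x : P, (g₁.1.1 x : V) = g.1.1 x) → g₁ ∈ H₁)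
    (r₂ : ∀ g ∈ H, ∀ g₂ : OG (FsTw.res Q (D.perp P)) × ℤˣ, g₂.2 = g.2 →
      (∀ x : D.perp P, (g₂.1.1 x : V) = g.1.1 x) → g₂ ∈ H₂)
    (gl : ∀ g ∈ D.Gam, ∀ g₁ ∈ H₁, ∀ g₂ ∈ H₂, g.2 = g₁.2 → (∀ x : P, g.1.1 x = g₁.1.1 x) →
      (∀ x : D.perp P, g.1.1 x = g₂.1.1 x) → g ∈ H)
    (k₁ : GoodS (sg _) H₁) (k₂ : GoodS (sg _) H₂) : GoodS (sg Q) H := by
  have fin : ∀ {W : Type u} [AddCommGroup W] [Module (ZMod 2) W] [Finite W] (Q : QuadraticForm (ZMod 2) W),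
      Finite (OG Q) := fun Q => Finite.of_injective (fun g x => g.1 x) fun _ _ e => OG.ext (congrFun e)
  have := fin Q
  have := fin (FsTw.res Q P)
  have := fin (FsTw.res Q (D.perp P))
  obtain ⟨p₁, a⟩ := D.exists_res hP h
  obtain ⟨p₂, b⟩ := D.exists_res (D.nd_perp hP) (D.map_perp h)
  refine good_prod k₁ k₂ (p₁.codRestrict H₁ fun g => r₁ g g.2 _ (a g).1 (a g).2)
    (p₂.codRestrict H₂ fun g => r₂ g g.2 _ (b g).1 (b g).2) (fun g => (a g).1) (fun g => (b g).1)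
    (fun g e e' => ?_) fun g₁ g₂ e e' => ?_
  · replace e : p₁ g = 1 := congrArg Subtype.val e
    replace e' : p₂ g = 1 := congrArg Subtype.val e'
    refine Subtype.ext (Prod.ext (OG.ext fun x => ?_) ((a g).1.symm.trans (congrArg Prod.snd e)))
    obtain ⟨p, c, w, d, rfl⟩ := D.exists_add_perp hP x
    rw [map_add, ← (a g).2 ⟨p, c⟩, ← (b g).2 ⟨w, d⟩, e, e']; rfl
  · obtain ⟨g, c1, c2, c3, c4⟩ := D.glue hP (l₁ g₁.2) (l₂ g₂.2) (e.trans e'.symm)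
    have := gl g c1 _ g₁.2 _ g₂.2 c2 c3 c4
    exact ⟨⟨g, this⟩, Subtype.ext (Prod.ext (OG.ext fun x => Subtype.ext (((a _).2 x).trans (c3 x))) ((a _).1.trans c2)),
      Subtype.ext (Prod.ext (OG.ext fun x => Subtype.ext (((b _).2 x).trans (c4 x)))
        ((b _).1.trans (c2.trans (e.trans e'.symm))))⟩

theorem res_mem (hP : Nd Q P) {g : OG Q × ℤˣ} (hg : g ∈ D.Gam) {g₁ : OG (FsTw.res Q P) × ℤˣ} (e : g₁.2 = g.2)
    (h : ∀ x : P, (g₁.1.1 x : V) = g.1.1 x) : g₁ ∈ (D.res hP).Gam := fun r x => Subtype.ext (by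
  rw [h, Submodule.coe_smul, hg, Submodule.coe_smul, h, e])

theorem perp_ne_top (hP : Nd Q P) (h0 : P ≠ ⊥) : D.perp P ≠ ⊤ := fun e =>
  h0 (eq_bot_iff.2 fun x hx => hP x hx (show x ∈ D.perp P from e ▸ trivial))

theorem dec_sq (ih : D.IH) (hP : Nd Q P) (h0 : P ≠ ⊥) {K : Subgroup (OG Q × ℤˣ)} (hK : K ≤ D.Gam)
    (h1 : ∀ g ∈ K, ∀ x ∈ P, g.1.1 x ∈ P) (h2 : ∀ g ∈ K, ∀ x ∈ P, g.1.1 (g.1.1 x) = x)
    (h3 : ∀ g ∈ K, ∀ g' ∈ D.Gam, g'.2 = g.2 → (∀ x ∈ P, g'.1.1 x = g.1.1 x) → g' ∈ K) {v y : V}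
    (hv : v ∈ D.perp P) (hy : y ∈ D.perp P) (ha : Adm Q σ v) : GoodS (sg Q) (K ⊓ D.Fam v y) := by
  obtain ⟨p, a⟩ := D.exists_res hP h1
  refine D.dec hP (fun g hg => h1 g hg.1) (H₁ := p.range) (H₂ := (D.res (D.nd_perp hP)).Fam ⟨v, hv⟩ ⟨y, hy⟩)
    (by rintro _ ⟨g, rfl⟩; exact D.res_mem hP (hK g.2) (a g).1 (a g).2) (fun _ h => h.1)
    (fun g hg g₁ b c => ⟨⟨g, hg.1⟩, Prod.ext (OG.ext fun x => Subtype.ext (((a _).2 x).trans (c x).symm))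
      ((a _).1.trans b.symm)⟩)
    (fun g ⟨_, g1, g2, r, g3⟩ g₂ b c => ⟨D.res_mem (D.nd_perp hP) g1 b c, Subtype.ext ((c _).trans g2), r, Subtype.ext ((c _).trans g3)⟩)
    ?_ (goodS_of_sq ?_) (ih _ (D.nd_perp hP) (D.perp_ne_top hP h0) _ _ (Adm.res ha))
  · rintro g hg _ ⟨k, rfl⟩ g₂ ⟨-, g2, r, g3⟩ b c d
    exact ⟨h3 k k.2 g hg (b.trans (a k).1) fun x hx => (c ⟨x, hx⟩).trans ((a k).2 _), hg,
      (d ⟨v, hv⟩).trans (congrArg Subtype.val g2), r, (d ⟨y, hy⟩).trans (congrArg Subtype.val g3)⟩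
  · rintro _ ⟨k, rfl⟩ -
    refine Prod.ext (OG.ext fun x => Subtype.ext ?_) (Int.units_mul_self _)
    rw [Prod.fst_mul, OG.mul_apply, (a k).2, (a k).2, h2 k k.2 x x.2]; rfl

omit [Finite V] D in
theorem _root_.CfsgLib.FsTw.Adm.smul {v : V} (h : Adm Q σ v) (c : R) : Adm Q σ (c • v) :=
  ⟨fun r => by rw [smul_comm, h.1, smul_comm], fun r hr => by
    rw [smul_smul]; exact h.2 _ fun t => by rw [mul_smul, hr]⟩

theorem dec_idem (ih : D.IH) {e : R} (he : e * e = e) (hσ : σ e = e) (h0 : ∃ x : V, e • x ≠ 0)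
    (h1 : ∃ x : V, e • x ≠ x) {v : V} (ha : Adm Q σ v) (y : V) : GoodS (sg Q) (D.Fam v y) := by
  let P : Submodule R V :=
    { carrier := {x | e • x = x}
      zero_mem' := smul_zero _
      add_mem' := fun {a b} (x : e • a = a) (y : e • b = b) => show e • _ = _ by rw [smul_add, x, y]
      smul_mem' := fun r a (x : e • a = a) => show e • _ = _ by rw [smul_comm, x] }
  have m1 : ∀ x : V, e • x ∈ P := fun x => show e • _ = _ by rw [smul_smul, he]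
  have m2 : ∀ x : V, (1 - e) • x ∈ D.perp P := fun x y (hy : e • y = y) => by
    rw [← hy, D.adj', hσ, smul_smul, mul_sub, he, mul_one, sub_self, zero_smul, polar_zero_left]
  have hP : Nd Q P := fun x (hx : e • x = x) h => eq_zero_of_polar D.nd fun y => by
    rw [← hx, D.adj, hσ]; exact h _ (m1 y)
  have cm : ∀ g ∈ D.Gam, ∀ x : V, g.1.1 (e • x) = e • g.1.1 x := fun g hg x => by rw [hg, tw_of_fix hσ]
  have cm' : ∀ g ∈ D.Gam, ∀ x : V, g.1.1 ((1 - e) • x) = (1 - e) • g.1.1 x := fun g hg x => by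
    rw [hg, tw_of_fix (by rw [map_sub, map_one, hσ])]
  have sp : ∀ x : V, x = e • x + (1 - e) • x := fun x => by rw [← add_smul, add_sub_cancel, one_smul]
  obtain ⟨x0, h0⟩ := h0
  obtain ⟨x1, h1⟩ := h1
  refine D.dec hP (fun g hg x (hx : e • x = x) => show e • _ = _ by rw [← cm g hg.1, hx])
    (H₁ := (D.res hP).Fam ⟨_, m1 v⟩ ⟨_, m1 y⟩) (H₂ := (D.res (D.nd_perp hP)).Fam ⟨_, m2 v⟩ ⟨_, m2 y⟩)
    (fun _ h => h.1) (fun _ h => h.1)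
    (fun g ⟨g1, g2, r, g3⟩ g₁ b c => ⟨D.res_mem hP g1 b c, Subtype.ext ((c _).trans (by rw [cm g g1, g2])), r,
      Subtype.ext ((c _).trans (by rw [cm g g1, g3, smul_add, smul_comm e r]; rfl))⟩)
    (fun g ⟨g1, g2, r, g3⟩ g₂ b c => ⟨D.res_mem (D.nd_perp hP) g1 b c, Subtype.ext ((c _).trans (by rw [cm' g g1, g2])), r,
      Subtype.ext ((c _).trans (by rw [cm' g g1, g3, smul_add, smul_comm _ r]; rfl))⟩) ?_
    (ih _ hP (fun k : P = ⊤ => h1 (show x1 ∈ P from k ▸ trivial)) _ _ (Adm.res (ha.smul e)))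
    (ih _ (D.nd_perp hP) (D.perp_ne_top hP fun k => h0 ((Submodule.mem_bot R).1 (k ▸ m1 x0))) _ _ (Adm.res (ha.smul _)))
  rintro g hg g₁ ⟨-, a2, r, a3⟩ g₂ ⟨-, b2, r', b3⟩ - c d
  refine ⟨hg, ?_, r * e + r' * (1 - e), ?_⟩
  · rw [sp v, map_add, c ⟨_, m1 v⟩, d ⟨_, m2 v⟩, a2, b2]
  · conv_lhs => rw [sp y, map_add, c ⟨_, m1 y⟩, d ⟨_, m2 y⟩, a3, b3]
    rw [add_smul, mul_smul, mul_smul]
    nth_rewrite 5 [sp y]
    exact add_add_add_comm _ _ _ _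

end Dat

end CfsgLib.FsTw
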