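import Cfsg.Agent.Lib.FsTw.Mat
import Cfsg.Agent.Lib.Char.Induce

/-!
Twisted Frobenius–Schur sums of a group with a sign homomorphism.
-/

set_option autoImplicit false

namespace CfsgLib.FsTw

open Cfsg CfsgLib.Char
open scoped ComplexOrder

variable {X : Type*} [Group X] {s : X →* ℤˣ} {χ χ' : X → ℂ}

/-- `χ` restricts to a character of the kernel of `s` -/
def Ch (s : X →* ℤˣ) (χ : X → ℂ) : Prop := IsCharacter s.ker fun g => χ g

/-- `χ` restricts to an irreducible character of the kernel of `s` -/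
def Irr (s : X →* ℤˣ) (χ : X → ℂ) : Prop := IsIrrCharacter s.ker fun g => χ g

/-- the twisted indicator sum -/
noncomputable def eps (s : X →* ℤˣ) (χ : X → ℂ) : ℂ := ∑ᶠ x, if s x = 1 then 0 else χ (x * x)

/-- all twisted indicators are nonnegative -/
def Good (s : X →* ℤˣ) : Prop := ∀ χ, Ch s χ → 0 ≤ eps s χ

/-- `Good` for a subgroup -/
def GoodS (s : X →* ℤˣ) (H : Subgroup X) : Prop := Good (s.comp H.subtype)

/-- an irreducible character with negative twisted indicator -/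
def Bad (s : X →* ℤˣ) (ψ : X → ℂ) : Prop := Irr s ψ ∧ eps s ψ = -Nat.card s.ker

/-- no irreducible character has indicator `-1` -/
def NQ (G : Type*) [Group G] : Prop := ∀ χ, IsCharacter G χ → 0 ≤ ∑ᶠ g, χ (g * g)

/-- a semidirect product `N L` with `N` of class at most two; `Z = {z ∈ N | lam z = 0}` -/
structure Semi {I : Type*} [AddCommGroup I] (s : X →* ℤˣ) (N L : Subgroup X)
    (lam : X → I →+ ZMod 2) : Prop where
  norm : N.Normal
  dec : ∀ x, ∃ n ∈ N, ∃ l ∈ L, x = n * l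
  disj : ∀ x ∈ N, x ∈ L → x = 1
  sN : ∀ n ∈ N, s n = 1
  mul : ∀ n ∈ N, ∀ m ∈ N, lam (n * m) = lam n + lam m
  cen : ∀ z ∈ N, lam z = 0 → z * z = 1 ∧ ∀ x, x * z = z * x

theorem s_sq (s : X →* ℤˣ) (x : X) : s (x * x) = 1 := by rw [map_mul, Int.units_mul_self]

theorem s_ne {x : X} : s x ≠ 1 ↔ s x = -1 := Int.units_ne_iff_eq_neg

theorem s_inv (s : X →* ℤˣ) (x : X) : s x⁻¹ = s x := by rw [map_inv, Int.units_inv_eq_self]

theorem s_conj (s : X →* ℤˣ) (x g : X) : s (x * g * x⁻¹) = s g := by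
  rw [map_mul, map_mul, map_inv, mul_inv_cancel_comm]

theorem s_odd (s : X →* ℤˣ) {a : X} (h : Odd (orderOf a)) : s a = 1 := by
  have := congrArg s (pow_orderOf_eq_one a)
  rwa [map_pow, map_one, Int.units_pow_eq_pow_mod_two, Nat.odd_iff.1 h, pow_one] at this

/-- the extended centraliser -/
def Cs (s : X →* ℤˣ) (a : X) : Subgroup X where
  carrier := {x | x * a * x⁻¹ = a ^ (s x : ℤ)}
  one_mem' := by simp
  mul_mem' {x y} hx hy := by
    simp only [Set.mem_ofPred] at *
    rw [_root_.mul_inv_rev, show x * y * a * (y⁻¹ * x⁻¹) = x * (y * a * y⁻¹) * x⁻¹ by group, hy,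
      ← conj_zpow, hx, ← zpow_mul, map_mul, Units.val_mul]
  inv_mem' {x} hx := by
    simp only [Set.mem_ofPred] at *
    have h1 : x * a ^ (s x : ℤ) * x⁻¹ = a := by
      rw [← conj_zpow, hx, ← zpow_mul, ← Units.val_mul, Int.units_mul_self]; simp
    rw [s_inv, inv_inv, mul_assoc, inv_mul_eq_iff_eq_mul, ← mul_inv_eq_iff_eq_mul.1 h1]

theorem mem_Cs {a x : X} : x ∈ Cs s a ↔ x * a * x⁻¹ = a ^ (s x : ℤ) := Iff.rfl

theorem nonneg_of_nat_mul {n : ℕ} (hn : n ≠ 0) {z : ℂ} (h : 0 ≤ n * z) : 0 ≤ z := by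
  have h1 : (0 : ℂ) ≤ ((n⁻¹ : ℝ) : ℂ) := Complex.zero_le_real.2 (by positivity)
  simpa [hn] using mul_nonneg h1 h

theorem Irr.ch (h : Irr s χ) : Ch s χ := isCharacter_of_isIrr h

theorem eps_eq [Fintype X] (s : X →* ℤˣ) (χ : X → ℂ) :
    eps s χ = ∑ x, if s x = 1 then 0 else χ (x * x) := finsum_eq_sum_of_fintype _

theorem eps_congr (h : ∀ g, s g = 1 → χ g = χ' g) : eps s χ = eps s χ' :=
  finsum_congr fun x => by rw [h _ (s_sq s x)]

theorem eps_of_pos (h : ∀ x, s x = 1) (χ : X → ℂ) : eps s χ = 0 := by simp [eps, h]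

theorem eps_eq_sum_ker [Fintype s.ker] {τ : X} (hτ : s τ = -1) (χ : X → ℂ) :
    eps s χ = ∑ g : s.ker, χ (g * τ * (g * τ)) := by
  rw [← finsum_eq_sum_of_fintype, eps, ← finsum_comp_equiv (Equiv.mulRight τ),
    finsum_subtype_eq_finsum_cond (f := fun g => χ (g * τ * (g * τ))) (p := (· ∈ s.ker))]
  refine finsum_congr fun g => ?_
  rcases Int.units_eq_one_or (s g) with h | h <;> simp [h, hτ]

theorem Ch.comp {Y : Type*} [Group Y] {s' : Y →* ℤˣ} (h : Ch s χ) (f : Y →* X)
    (hf : ∀ y, s (f y) = s' y) : Ch s' fun y => χ (f y) :=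
  isCharacter_comp ((f.comp s'.ker.subtype).codRestrict s.ker fun y => (hf y).trans y.2) h

variable [Finite X]

theorem good_of_irr (h : ∀ ψ, Irr s ψ → 0 ≤ eps s ψ) : Good s := fun χ hχ => by
  have := Fintype.ofFinite X
  have key : ∀ φ, IsCharacter s.ker φ → 0 ≤ eps s (extendByZero s.ker φ) := fun φ hφ => by
    refine isCharacter_induction (P := fun φ => 0 ≤ eps s (extendByZero s.ker φ)) ?_ ?_ hφ
    · simp [extendByZero_zero, eps]
    · intro φ ψ h1 _ h2
      refine (add_nonneg (h (extendByZero s.ker φ) (by simpa [Irr, extendByZero_coe])) h2).trans_eq ?_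
      simp only [eps_eq, ← Finset.sum_add_distrib, extendByZero_add]
      exact Finset.sum_congr rfl fun x _ => by split_ifs <;> simp
  exact (key _ hχ).trans_eq (eps_congr fun g hg => extendByZero_of_mem _ _ hg)

theorem Good.of_surj {Y : Type*} [Group Y] {s' : Y →* ℤˣ} (h : Good s) (f : X →* Y)
    (hf : Function.Surjective f) (hs : ∀ x, s' (f x) = s x) : Good s' := fun χ hχ => by
  have := Finite.of_surjective f hf
  have := Fintype.ofFinite X
  have := Fintype.ofFinite Y
  have h1 := h _ (hχ.comp f hs)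
  simp only [eps_eq, ← hs, map_mul] at h1
  rw [sum_comp_of_surjective f hf fun y => if s' y = 1 then 0 else χ (y * y)] at h1
  exact eps_eq s' χ ▸ nonneg_of_nat_mul Nat.card_pos.ne' h1

omit [Finite X] in
theorem good_of_sq (h : ∀ x, s x = -1 → x * x = 1) : Good s := fun χ hχ => by
  obtain ⟨n, hn⟩ := exists_char_one_eq_nat hχ
  refine finsum_nonneg fun x => ?_
  split_ifs with hx
  · rfl
  · exact h x (s_ne.1 hx) ▸ hn.symm ▸ n.cast_nonneg

omit [Finite X] in
theorem goodS_of_sq {H : Subgroup X} (h : ∀ x ∈ H, s x = -1 → x * x = 1) : GoodS s H :=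
  good_of_sq fun x hx => Subtype.ext (h x x.2 hx)

theorem GoodS.subgroupOf {H K : Subgroup X} (h : GoodS s K) (hK : K ≤ H) :
    GoodS (s.comp H.subtype) (K.subgroupOf H) :=
  Good.of_surj h (Subgroup.subgroupOfEquivOfLe hK).symm.toMonoidHom (MulEquiv.surjective _)
    fun _ => rfl

theorem goodS_top : GoodS s ⊤ ↔ Good s :=
  ⟨fun h => Good.of_surj h Subgroup.topEquiv.toMonoidHom (MulEquiv.surjective _) fun _ => rfl,
    fun h => h.of_surj Subgroup.topEquiv.symm.toMonoidHom (MulEquiv.surjective _) fun _ => rfl⟩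

theorem Good.nq {G : Type*} [Group G] [Finite G] (h : Good (MonoidHom.snd G ℤˣ)) : NQ G :=
  fun χ hχ => by
    have := Fintype.ofFinite G
    have h1 := h (fun x => χ x.1) (isCharacter_comp ((MonoidHom.fst G ℤˣ).comp (Subgroup.subtype _)) hχ)
    rw [eps_eq, Fintype.sum_prod_type] at h1
    rw [finsum_eq_sum_of_fintype]
    simpa [UnitsInt.univ] using h1

/-- The partial average of a character against an invariant linear character is a character. -/
theorem isCharacter_avg {G N Y : Type*} [Group G] [Group N] [Fintype N] [Group Y] {ψ : G → ℂ}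
    (hψ : IsCharacter G ψ) (i : N →* G) (j : Y →* G) (l : N →* ℂ)
    (h : ∀ y, ∃ c : N ≃ N, ∀ n, j y * i n = i (c n) * j y ∧ l (c n) = l n) :
    IsCharacter Y fun y => (Nat.card N : ℂ)⁻¹ * ∑ n, l n * ψ (i n * j y) := by
  obtain ⟨m, α, hα⟩ := exists_mat hψ
  have h1 : ∀ x, α (i x) * ∑ n, l n • α (i n) = l x⁻¹ • ∑ n, l n • α (i n) := fun x => by
    rw [Finset.mul_sum, Finset.smul_sum]
    exact Fintype.sum_equiv (Equiv.mulLeft x) _ _ fun n => by
      rw [Equiv.coe_mulLeft, smul_smul, ← map_mul l, inv_mul_cancel_left, map_mul i, map_mul α,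
        mul_smul_comm]
  have := isCharacter_trace_mul (α.comp j) (e := (Nat.card N : ℂ)⁻¹ • ∑ n, l n • α (i n)) (by
    rw [smul_mul_smul_comm, Finset.sum_mul]
    simp only [smul_mul_assoc, h1, smul_smul, ← map_mul l, mul_inv_cancel, map_one]
    simp [← Nat.cast_smul_eq_nsmul ℂ, smul_smul]) fun y => by
      obtain ⟨c, hc⟩ := h y
      rw [smul_mul_assoc, mul_smul_comm, Finset.sum_mul, Finset.mul_sum]
      exact congrArg _ (Fintype.sum_equiv c _ _ fun n => by
        rw [mul_smul_comm, smul_mul_assoc, MonoidHom.comp_apply, ← map_mul α, ← map_mul α, (hc n).1,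
          (hc n).2]).symm
  simpa only [Finset.sum_mul, Matrix.trace_sum, MonoidHom.comp_apply, smul_mul_assoc, ← map_mul α,
    Matrix.trace_smul, hα, smul_eq_mul] using this

end CfsgLib.FsTw
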