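import Cfsg.Agent.Lib.FsTw.Defs
import Cfsg.Agent.Lib.Orth.Basic

/-!
Quadratic spaces over the field with two elements with a ring of operators and an involution; the
groups of semilinear isometries.
-/

set_option autoImplicit false
set_option linter.unusedSectionVars false

namespace CfsgLib.FsTw

open QuadraticMap CfsgLib.Orth

universe u

variable {V R : Type u} [AddCommGroup V] [Module (ZMod 2) V] [CommRing R] [Algebra (ZMod 2) R]
  [Module R V] [IsScalarTower (ZMod 2) R V]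

/-- a quadratic space with a ring of operators whose adjoints are given by `σ` -/
structure Dat (Q : QuadraticForm (ZMod 2) V) (σ : R →+* R) : Prop where
  σσ : ∀ r, σ (σ r) = r
  nd : (polarBilin Q).Nondegenerate
  adj : ∀ (r : R) x y, polar Q (r • x) y = polar Q x (σ r • y)
  qc : ∀ (r : R) x, Q (r • x) = Q (σ r • x)
  sq : ∀ r : R, IsSquare r
  un : ∀ x : V, (∀ a : R, a * σ a = 1 → a • x = x) → ∀ r : R, σ r • x = r • x

/-- `σ ^ δ` -/
def tw (σ : R →+* R) (δ : ℤˣ) : R →+* R := if δ = 1 then RingHom.id R else σ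

/-- the sign -/
abbrev sg (Q : QuadraticForm (ZMod 2) V) : OG Q × ℤˣ →* ℤˣ := MonoidHom.snd _ _

/-- `v` is zero or nonsingular of orthogonal type in each component -/
def Adm (Q : QuadraticForm (ZMod 2) V) (σ : R →+* R) (v : V) : Prop :=
  (∀ r, σ r • v = r • v) ∧ ∀ r : R, (∀ t : R, Q (t • r • v) = 0) → r • v = 0

/-- restriction of the form -/
def res (Q : QuadraticForm (ZMod 2) V) (W : Submodule R V) : QuadraticForm (ZMod 2) W :=
  Q.comp (W.subtype.restrictScalars (ZMod 2))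

/-- nondegenerate submodule -/
def Nd (Q : QuadraticForm (ZMod 2) V) (W : Submodule R V) : Prop :=
  ∀ x ∈ W, (∀ y ∈ W, polar Q x y = 0) → x = 0

/-- faithful action, and no proper `σ`-stable ideal -/
structure Smp (V : Type u) [AddCommGroup V] [Module R V] (σ : R →+* R) : Prop where
  faith : ∀ r : R, (∀ x : V, r • x = 0) → r = 0
  fix : ∀ r, σ r = r → r = 0 ∨ IsUnit r

/-- the sesquilinear form with values in `R` -/
structure Herm (Q : QuadraticForm (ZMod 2) V) (σ : R →+* R) (t : R →+ ZMod 2) (h : V → V → R) :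
    Prop where
  tσ : ∀ r, t (σ r) = t r
  tnd : ∀ c, (∀ r, t (r * c) = 0) → c = 0
  spec : ∀ r x y, t (r * h x y) = polar Q (r • x) y

variable {Q : QuadraticForm (ZMod 2) V} {σ : R →+* R} {W : Submodule R V}

theorem add_self_V (x : V) : x + x = 0 := ZModModule.add_self x

theorem add_self_R (r : R) : r + r = 0 := ZModModule.add_self r

theorem polar_self_eq (Q : QuadraticForm (ZMod 2) V) (x : V) : polar Q x x = 0 := by
  rw [polar_self', show (2 : ZMod 2) = 0 from rfl, zero_mul]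

@[simp] theorem res_apply (x : W) : res Q W x = Q x := rfl

@[simp] theorem polar_res (x y : W) : polar (res Q W) x y = polar Q x y := rfl

@[simp] theorem tw_one : tw σ 1 = RingHom.id R := if_pos rfl

@[simp] theorem tw_neg : tw σ (-1) = σ := if_neg (by decide)

theorem tw_of_fix {r : R} (h : σ r = r) (δ : ℤˣ) : tw σ δ r = r := by
  rcases Int.units_eq_one_or δ with rfl | rfl <;> simp [h]

theorem tw_σ (δ : ℤˣ) (r : R) : tw σ δ (σ r) = σ (tw σ δ r) := by
  rcases Int.units_eq_one_or δ with rfl | rfl <;> simp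

theorem Adm.tw_smul {v : V} (h : Adm Q σ v) (δ : ℤˣ) (r : R) : tw σ δ r • v = r • v := by
  rcases Int.units_eq_one_or δ with rfl | rfl <;> simp [h.1]

theorem adm_zero : Adm Q σ 0 := ⟨by simp, by simp⟩

theorem Adm.res {v : W} (h : Adm Q σ v.1) : Adm (res Q W) σ v :=
  ⟨fun r => Subtype.ext (h.1 r), fun r hr => Subtype.ext (h.2 r hr)⟩

namespace Dat

variable (D : Dat Q σ)
include D

theorem tw_mul (δ ε : ℤˣ) (r : R) : tw σ (δ * ε) r = tw σ δ (tw σ ε r) := by
  rcases Int.units_eq_one_or δ with rfl | rfl <;> rcases Int.units_eq_one_or ε with rfl | rfl <;>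
    simp [D.σσ]

theorem tw_tw (δ : ℤˣ) (r : R) : tw σ δ (tw σ δ r) = r := by
  rw [← D.tw_mul, Int.units_mul_self]; simp

theorem adj' (r : R) (x y : V) : polar Q x (r • y) = polar Q (σ r • x) y := by rw [D.adj, D.σσ]

theorem sq_bij [Finite R] : Function.Bijective fun r : R => r * r :=
  Finite.surjective_iff_bijective.1 fun r => (D.sq r).imp fun _ h => h.symm

theorem eq_zero_of_sq [Finite R] {r : R} (h : r * r = 0) : r = 0 := D.sq_bij.1 (by simpa)

theorem exists_pow [Finite R] : ∃ m, ∀ r : R, r ^ 2 ^ (m + 1) = r := by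
  have h : ∀ n r, (Equiv.ofBijective _ D.sq_bij ^ n) r = r ^ 2 ^ n := fun n => by
    induction n with
    | zero => simp
    | succ n ih => intro r; rw [pow_succ', Equiv.Perm.mul_apply, ih, pow_succ, pow_mul, pow_two]; rfl
  obtain ⟨m, hm⟩ := Nat.exists_eq_succ_of_ne_zero (orderOf_pos (Equiv.ofBijective _ D.sq_bij)).ne'
  exact ⟨m, fun r => by rw [← h, ← Nat.succ_eq_add_one, ← hm, pow_orderOf_eq_one]; rfl⟩

theorem Q_norm [Finite R] {a : R} (ha : a * σ a = 1) (x : V) : Q (a • x) = Q x := by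
  obtain ⟨b, rfl⟩ := D.sq a
  have h1 : σ b * b = 1 := D.sq_bij.1 (by rw [map_mul] at ha; linear_combination ha)
  rw [mul_smul, D.qc, smul_smul, h1, one_smul]

theorem finite [Finite V] (h : ∀ r : R, (∀ x : V, r • x = 0) → r = 0) : Finite R :=
  Finite.of_injective (fun (r : R) (x : V) => r • x) fun _ _ e =>
    sub_eq_zero.1 (h _ fun x => by rw [sub_smul, sub_eq_zero]; exact congrFun e x)

/-- the group of semilinear isometries -/
def Gam : Subgroup (OG Q × ℤˣ) where
  carrier := {g | ∀ (r : R) x, g.1.1 (r • x) = tw σ g.2 r • g.1.1 x}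
  one_mem' r x := by simp
  mul_mem' {g h} hg hh r x := by
    rw [Prod.fst_mul, Prod.snd_mul, OG.mul_apply, hh, hg, D.tw_mul, OG.mul_apply]
  inv_mem' {g} hg r x := g.1.1.injective (by
    rw [Prod.fst_inv, Prod.snd_inv, OG.apply_inv_self, hg, OG.apply_inv_self, Int.units_inv_eq_self,
      D.tw_tw])

theorem mem_Gam {g : OG Q × ℤˣ} :
    g ∈ D.Gam ↔ ∀ (r : R) x, g.1.1 (r • x) = tw σ g.2 r • g.1.1 x := Iff.rfl

/-- pointwise stabiliser -/
def St (S : Set V) : Subgroup (OG Q × ℤˣ) where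
  carrier := {g | g ∈ D.Gam ∧ ∀ x ∈ S, g.1.1 x = x}
  one_mem' := ⟨one_mem _, fun _ _ => rfl⟩
  mul_mem' {g h} hg hh := ⟨mul_mem hg.1 hh.1, fun x hx => by
    rw [Prod.fst_mul, OG.mul_apply, hh.2 x hx, hg.2 x hx]⟩
  inv_mem' {g} hg := ⟨inv_mem hg.1, fun x hx => g.1.1.injective (by
    rw [Prod.fst_inv, OG.apply_inv_self, hg.2 x hx])⟩

theorem mem_St {S : Set V} {g : OG Q × ℤˣ} : g ∈ D.St S ↔ g ∈ D.Gam ∧ ∀ x ∈ S, g.1.1 x = x :=
  Iff.rfl

/-- the stabiliser of `v` and of `y + R v` -/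
def Fam (v y : V) : Subgroup (OG Q × ℤˣ) where
  carrier := {g | g ∈ D.Gam ∧ g.1.1 v = v ∧ ∃ r : R, g.1.1 y = y + r • v}
  one_mem' := ⟨one_mem _, rfl, 0, by simp⟩
  mul_mem' := by
    rintro g h ⟨g1, g2, r, g3⟩ ⟨h1, h2, r', h3⟩
    exact ⟨mul_mem g1 h1, by rw [Prod.fst_mul, OG.mul_apply, h2, g2], r + tw σ g.2 r', by
      rw [Prod.fst_mul, OG.mul_apply, h3, map_add, g3, g1, g2, add_smul, add_assoc]⟩
  inv_mem' := by
    rintro g ⟨g1, g2, r, g3⟩
    exact ⟨inv_mem g1, g.1.1.injective (by rw [Prod.fst_inv, OG.apply_inv_self, g2]),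
      tw σ g.2 r, g.1.1.injective (by
        rw [Prod.fst_inv, OG.apply_inv_self, map_add, g3, g1, g2, D.tw_tw, add_assoc, add_self_V,
          add_zero])⟩

theorem mem_Fam {v y : V} {g : OG Q × ℤˣ} :
    g ∈ D.Fam v y ↔ g ∈ D.Gam ∧ g.1.1 v = v ∧ ∃ r : R, g.1.1 y = y + r • v := Iff.rfl

/-- the orthogonal complement -/
def perp (W : Submodule R V) : Submodule R V where
  carrier := {x | ∀ y ∈ W, polar Q x y = 0}
  zero_mem' _ _ := by simp
  add_mem' ha hb y hy := by rw [polar_add_left, ha y hy, hb y hy, add_zero]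
  smul_mem' r x hx y hy := by rw [D.adj, hx _ (W.smul_mem _ hy)]

theorem mem_perp {x : V} : x ∈ D.perp W ↔ ∀ y ∈ W, polar Q x y = 0 := Iff.rfl

theorem res (hW : Nd Q W) : Dat (res Q W) σ :=
  ⟨D.σσ, nondegenerate_of_polar fun x hx => Subtype.ext (hW x x.2 fun y hy => hx ⟨y, hy⟩),
    fun r x y => D.adj r x y, fun r x => D.qc r x, D.sq,
    fun x hx r => Subtype.ext (D.un x (fun a ha => congrArg Subtype.val (hx a ha)) r)⟩

/-- the induction hypothesis -/
def IH : Prop := ∀ (W : Submodule R V) (hW : Nd Q W), W ≠ ⊤ → ∀ v y : W, Adm (FsTw.res Q W) σ v →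
  GoodS (sg _) ((D.res hW).Fam v y)

variable [Finite V]

theorem mem_of_perp_perp {x : V} (h : ∀ y ∈ D.perp W, polar Q x y = 0) : x ∈ W := by
  by_contra hx
  obtain ⟨w, h1, h2⟩ := exists_perp_polar_eq D.nd (W := W.restrictScalars (ZMod 2)) hx 1
  exact one_ne_zero (h2.symm.trans (h w fun y hy => polar_comm Q y w ▸ h1 y hy))

theorem nd_perp (hW : Nd Q W) : Nd Q (D.perp W) := fun x hx h =>
  hW x (D.mem_of_perp_perp h) hx

theorem exists_add_perp (hW : Nd Q W) (x : V) : ∃ p ∈ W, ∃ w ∈ D.perp W, x = p + w := by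
  have : x ∈ W ⊔ D.perp W := D.mem_of_perp_perp fun y hy => by
    rw [D.nd_perp hW y (fun z hz => hy z (Submodule.mem_sup_left hz))
      fun z hz => hy z (Submodule.mem_sup_right hz), polar_zero_right]
  simpa only [Submodule.mem_sup, eq_comm] using this

end Dat

end CfsgLib.FsTw
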