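import Cfsg.Agent.Lib.FsTw.Prod

/-!
Extensions of Heisenberg groups.
-/

set_option autoImplicit false
set_option linter.unusedSectionVars false

namespace CfsgLib.FsTw

open Cfsg CfsgLib.Char Matrix
open scoped ComplexOrder

variable {X : Type*} [Group X] [Finite X] {s : X →* ℤˣ}

namespace He

variable {N : Type*} [Group N] [Fintype N] {d : ℕ} {θ : N →* Matrix (Fin d) (Fin d) ℂ}

theorem exists_diag (hθ : Sch θ) (c : MulAut N) (htr : ∀ n, (θ (c n)).trace = (θ n).trace) {o : ℕ} (ho : o ≠ 0)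
    (hc : c ^ o = 1) : ∃ (θ' : N →* Matrix (Fin d) (Fin d) ℂ) (ζ : Fin d → ℂ), Sch θ' ∧
      (∀ n, (θ' n).trace = (θ n).trace) ∧ (∀ i, ζ i ^ o = 1) ∧ ∀ n, θ' (c n) * diagonal ζ = diagonal ζ * θ' n := by
  obtain ⟨A, hA, hu⟩ := (hθ.comp (f := c.toMonoidHom) c.surjective).exists_unit (α' := θ) fun n => (htr n).symm
  have hA' : ∀ n, θ (c n) * A = A * θ n := hA
  have h1 : ∀ k n, θ ((c ^ k) n) * A ^ k = A ^ k * θ n := fun k => by
    induction k with
    | zero => simp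
    | succ k ih => intro n; rw [pow_succ', MulAut.mul_apply, pow_succ', ← mul_assoc, hA', mul_assoc, ih, mul_assoc]
  obtain ⟨μ, hμ⟩ := hθ.2 (A ^ o) fun n => by simpa [hc] using (h1 o n).symm
  have := hθ.1
  have hμ0 : μ ≠ 0 := fun e => (hu.pow o).ne_zero (by rw [hμ, e, zero_smul])
  obtain ⟨ν, rfl⟩ := IsAlgClosed.exists_pow_nat_eq μ (Nat.pos_of_ne_zero ho)
  obtain ⟨P, ζ, hP⟩ := exists_conj_diagonal (A := ν⁻¹ • A) ho (by
    rw [smul_pow, hμ, smul_smul, inv_pow, inv_mul_cancel₀ hμ0, one_smul])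
  refine ⟨_, ζ, hθ.conj P, fun n => ?_, fun i => ?_, fun n => ?_⟩
  · simp [trace_mul_cycle]
  · have h2 : diagonal ζ ^ o = 1 := by
      rw [← hP]
      nth_rewrite 2 [← inv_inv P]
      rw [Units.conj_pow, smul_pow, hμ, smul_smul, inv_pow, inv_mul_cancel₀ hμ0, one_smul]
      simp
    rw [diagonal_pow] at h2
    simpa using congrFun (congrFun h2 i) i
  · rw [← hP]
    have h3 := congrArg (fun M => ν⁻¹ • (P⁻¹.1 * M * P.1)) (hA' n)
    simpa [mul_assoc] using h3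

theorem exists_nu {ζ : Fin d → ℂ} {o k : ℕ} (ho : o ≠ 0) (hζ : ∀ i, ζ i ^ o = 1)
    (htr : (∑ i, ζ i) * ∑ i, (ζ i)⁻¹ = 1) (hd : d ∣ 2 ^ k) : ∃ ν : Matrix (Fin d) (Fin d) ℂ → ℂ, ν 1 = 1 ∧
      (∀ S T, Commute S (diagonal ζ) → ν (S * T) = ν S * ν T) ∧ (∀ c T, c ≠ 0 → ν (c • T) = c * ν T) ∧
      ∀ T, Commute T (diagonal ζ) → ν Tᵀ = ν T := by
  classical
  obtain ⟨v, hv⟩ : ∃ v, Odd (Finset.univ.filter fun i => ζ i = v).card := by
    by_contra hn
    simp only [not_exists, Nat.not_odd_iff_even] at hn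
    have hI : ∀ i, IsIntegral ℤ (ζ i) := fun i => isIntegral_of_pow_eq_one (Nat.pos_of_ne_zero ho) (hζ i)
    have h1 : ∑ i, ζ i ∈ Tb.mul 2 := by
      rw [Finset.sum_comp (fun v => v) ζ]
      refine AddSubgroup.sum_mem _ fun v hv => ?_
      obtain ⟨i, -, rfl⟩ := Finset.mem_image.1 hv
      obtain ⟨r, hr⟩ := hn (ζ i)
      exact ⟨r * ζ i, (Tb.isIntegral_nat r).mul (hI i), by rw [hr]; simp; ring⟩
    obtain ⟨α, hα, e⟩ := h1
    have h2 : IsIntegral ℤ (α * ∑ i, (ζ i)⁻¹) := hα.mul (IsIntegral.sum _ fun i _ =>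
      isIntegral_of_pow_eq_one (Nat.pos_of_ne_zero ho) (by rw [inv_pow, hζ, inv_one]))
    rw [show α * ∑ i, (ζ i)⁻¹ = ((1 : ℕ) : ℂ) / (2 : ℕ) by rw [e] at htr; push_cast; linear_combination htr / 2] at h2
    simpa using nat_dvd_of_isIntegral_div two_ne_zero h2
  set r := (Finset.univ.filter fun i => ζ i = v).card with hr
  obtain ⟨α, β, e⟩ : IsCoprime (r : ℤ) d := Nat.isCoprime_iff_coprime.2
    (((Nat.coprime_two_right.2 hv).pow_right k).coprime_dvd_right hd)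
  set P : Matrix (Fin d) (Fin d) ℂ := diagonal fun i => if ζ i = v then 1 else 0 with hP
  have hPP : P * P = P := by
    rw [hP, diagonal_mul_diagonal]
    exact congrArg _ (funext fun i => by split_ifs <;> simp)
  have hC : ∀ T, Commute T (diagonal ζ) → T * P = P * T := fun T hT => by
    ext i j
    have := congrFun (congrFun hT.eq i) j
    simp only [hP, mul_diagonal, diagonal_mul] at this ⊢
    by_cases h0 : T i j = 0
    · simp [h0]
    · rw [mul_comm, mul_left_inj' h0] at this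
      rw [this, mul_comm]
  have hmul : ∀ S T, S * P = P * S → P * (S * T) + (1 - P) = (P * S + (1 - P)) * (P * T + (1 - P)) := fun S T hS => by
    have h1 : P * S * P = P * S := by rw [mul_assoc, hS, ← mul_assoc, hPP]
    simp only [mul_add, add_mul, mul_sub, sub_mul, mul_one, one_mul, ← mul_assoc, h1, hPP]
    abel
  refine ⟨fun T => (P * T + (1 - P)).det ^ α * T.det ^ β, by simp, fun S T hS => ?_, fun c T hc => ?_,
    fun T hT => ?_⟩
  · simp only [hmul S T (hC S hS), det_mul, mul_zpow]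
    ring
  · have h1 : (P * (c • 1) + (1 - P)).det = c ^ r := by
      rw [show P * (c • 1) + (1 - P) = diagonal fun i => if ζ i = v then c else 1 by
        ext i j
        by_cases h : i = j <;> by_cases h' : ζ j = v <;> simp [hP, h, h'], det_diagonal, Finset.prod_ite]
      simp [hr]
    have h2 := hmul (c • 1) T (by simp)
    rw [smul_one_mul] at h2
    simp only [h2, det_mul, h1, det_smul, Fintype.card_fin, mul_zpow]
    rw [← _root_.zpow_natCast, ← _root_.zpow_natCast, ← _root_.zpow_mul, ← _root_.zpow_mul, mul_mul_mul_comm,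
      ← zpow_add₀ hc, mul_comm (r : ℤ), mul_comm (d : ℤ), e, zpow_one]
  · simp only [det_transpose]
    rw [← det_transpose, transpose_add, transpose_mul, transpose_transpose, transpose_sub, transpose_one, hP,
      diagonal_transpose, ← hP, hC T hT]

theorem comm_of_smul {T D : Matrix (Fin d) (Fin d) ℂ} (hT : IsUnit T) (hD : D.trace ≠ 0) {c : ℂ}
    (h : T * D = c • (D * T)) : Commute T D := by
  obtain ⟨T, rfl⟩ := hT
  have h1 := congrArg (fun M => (M * T⁻¹.1).trace) h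
  simp only [smul_mul_assoc, Units.mul_inv_cancel_right, trace_smul, trace_mul_cycle T.1, Units.inv_mul, one_mul,
    smul_eq_mul] at h1
  rw [(mul_eq_right₀ hD).1 h1.symm, one_smul] at h
  exact h

theorem ext {Γ : Type*} [Group Γ] {s : Γ →* ℤˣ} (κ : Γ →* MulAut N) (hθ : Sch θ)
    (htr : ∀ l n, (θ (κ l n)).trace = (θ n).trace) (hinv : ∀ n, (θ n⁻¹).trace = (θ n).trace) {a : Γ}
    (ha : ∀ l, l ∈ Cs s a) {ζ : Fin d → ℂ} {o k : ℕ} (ho : o ≠ 0) (hζ : ∀ i, ζ i ^ o = 1)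
    (hD : ∀ n, θ (κ a n) * diagonal ζ = diagonal ζ * θ n) (hd : d ∣ 2 ^ k)
    (hA : ∑ n, (θ (κ a n * n⁻¹)).trace = Fintype.card N / d) :
    ∃ T : s.ker →* Matrix (Fin d) (Fin d) ℂ, (∀ (l : s.ker) n, θ (κ l n) * T l = T l * θ n) ∧ ∀ l, s l = -1 →
      ∑ n, θ (n * κ l n) = ((Fintype.card N : ℂ) / d) • T (⟨l * l, s_sq s l⟩ : s.ker)⁻¹ := by
  have := hθ.1
  have hζ0 : ∀ i, ζ i ≠ 0 := fun i e => by simpa [e, ho] using hζ i
  have hDD : diagonal ζ * diagonal (fun i => (ζ i)⁻¹) = 1 := by simp [diagonal_mul_diagonal, hζ0]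
  have hDu : IsUnit (diagonal ζ) := .of_mul_eq_one _ hDD
  have h1 : (∑ i, ζ i) * ∑ i, (ζ i)⁻¹ = 1 := by
    have h2 := congrArg (fun M => (diagonal ζ * M).trace) (hθ.avg (diagonal fun i => (ζ i)⁻¹))
    simp only [Finset.mul_sum, trace_sum, ← mul_assoc, ← hD] at h2
    simp only [mul_assoc _ (diagonal ζ), hDD, mul_one, ← map_mul, hA, mul_smul_comm, trace_smul, trace_diagonal,
      Fintype.card_fin, smul_eq_mul] at h2
    have h3 : (Fintype.card N : ℂ) / d ≠ 0 := by simpa using hθ.card_ne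
    rw [mul_assoc, eq_comm, mul_eq_left₀ h3] at h2
    rw [mul_comm, h2]
  have htD : (diagonal ζ).trace ≠ 0 := by
    rw [trace_diagonal]
    exact left_ne_zero_of_mul_eq_one h1
  obtain ⟨ν, ν1, νm, νs, νt⟩ := exists_nu ho hζ h1 hd
  have ν0 : ∀ T, Commute T (diagonal ζ) → IsUnit T → ν T ≠ 0 := by
    rintro _ hT ⟨T, rfl⟩
    exact left_ne_zero_of_mul_eq_one (b := ν T⁻¹.1) (by rw [← νm _ _ hT, T.mul_inv, ν1])
  have hS : ∀ l, Sch (θ.comp (κ l).toMonoidHom) := fun l => hθ.comp (κ l).surjective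
  have uniq : ∀ l {θ' : N →* Matrix (Fin d) (Fin d) ℂ} {S T}, IsUnit S → IsUnit T →
      S ∈ Hm (θ.comp (κ l).toMonoidHom) θ' → T ∈ Hm (θ.comp (κ l).toMonoidHom) θ' → ν S = ν T → ν T ≠ 0 → S = T := by
    intro l θ' S T h2 h3 h4 h5 h6 h7
    obtain ⟨c, rfl⟩ := (hS l).eq_smul h3 h5 h4
    rw [νs c T fun e => h2.ne_zero (by rw [e, zero_smul]), mul_eq_right₀ h7] at h6
    rw [h6, one_smul]
  have hex : ∀ l : s.ker, ∃ T, IsUnit T ∧ (∀ n, θ (κ l n) * T = T * θ n) ∧ Commute T (diagonal ζ) ∧ ν T = 1 := by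
    intro l
    obtain ⟨T, h2, h3⟩ := (hS l).exists_unit (α' := θ) fun n => (htr l n).symm
    have h2' : ∀ n, θ (κ l n) * T = T * θ n := h2
    have h4 := mem_Cs.1 (ha l)
    rw [show s l = 1 from l.2, Units.val_one, zpow_one, mul_inv_eq_iff_eq_mul] at h4
    obtain ⟨c, hc⟩ := (hS (a * l)).eq_smul (α' := θ) (T := T * diagonal ζ) (hDu.mul h3)
      (fun n => show θ (κ (a * l) n) * _ = _ by
        rw [map_mul κ, MulAut.mul_apply, ← mul_assoc, hD, mul_assoc, h2', mul_assoc])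
      fun n => show θ (κ (a * l) n) * _ = _ by
        rw [← h4, map_mul κ, MulAut.mul_apply, ← mul_assoc, h2', mul_assoc, hD, mul_assoc]
    have h5 := comm_of_smul h3 htD hc
    have h6 := ν0 T h5 h3
    exact ⟨(ν T)⁻¹ • T, h3.smul (Units.mk0 _ (inv_ne_zero h6)), fun n => by rw [mul_smul_comm, smul_mul_assoc, h2'],
      h5.smul_left _, by rw [νs _ _ (inv_ne_zero h6), inv_mul_cancel₀ h6]⟩
  choose T Tu Ti Tc Tν using hex
  let T' : s.ker →* Matrix (Fin d) (Fin d) ℂ :=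
    { toFun := T
      map_one' := uniq (1 : s.ker) (θ' := θ) (Tu 1) isUnit_one (Ti 1) (fun n => by simp) ((Tν 1).trans ν1.symm)
        (ν1 ▸ one_ne_zero)
      map_mul' l l' := uniq (l * l' : s.ker) (θ' := θ) (Tu _) ((Tu l).mul (Tu l')) (Ti _)
        (fun n => show θ (κ (l * l') n) * _ = _ by
          rw [map_mul κ, MulAut.mul_apply, ← mul_assoc, Ti, mul_assoc, Ti, mul_assoc])
        (by rw [νm _ _ (Tc l), Tν, Tν, Tν, one_mul]) (by rw [νm _ _ (Tc l), Tν, Tν, one_mul]; exact one_ne_zero) }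
  refine ⟨T', Ti, fun l hl => ?_⟩
  obtain ⟨U, h2, h3⟩ := (hS l).exists_unit (α' := dual θ) fun n => by
    rw [dual_apply, trace_transpose, hinv]; exact (htr l n).symm
  have h2' : ∀ n, θ (κ l n) * U = U * (θ n⁻¹)ᵀ := h2
  have h4 := mem_Cs.1 ((Cs s a).inv_mem (ha l))
  rw [s_inv, hl, inv_inv, Units.val_neg, Units.val_one, _root_.zpow_neg_one, mul_assoc,
    inv_mul_eq_iff_eq_mul] at h4
  obtain ⟨c, hc⟩ := (hS (a * l)).eq_smul (α' := dual θ) (T := U * diagonal ζ) (hDu.mul h3)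
    (fun n => show θ (κ (a * l) n) * _ = _ * (θ n⁻¹)ᵀ by
      rw [map_mul κ, MulAut.mul_apply, ← mul_assoc, hD, mul_assoc, h2', mul_assoc])
    fun n => show θ (κ (a * l) n) * _ = _ * (θ n⁻¹)ᵀ by
      rw [h4, map_mul κ, MulAut.mul_apply, ← mul_assoc, h2', mul_assoc, mul_assoc, ← diagonal_transpose ζ,
        ← transpose_mul, ← transpose_mul, ← hD]
      simp
  have h5 := comm_of_smul h3 htD hc
  set g : s.ker := ⟨l * l, s_sq s l⟩ with hg
  have h6 : T g * Uᵀ = U := uniq l (θ' := dual θ) ((Tu g).mul ((isUnit_transpose U).2 h3)) h3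
    (fun n => show θ (κ l n) * _ = _ * (θ n⁻¹)ᵀ by
      have h7 : θ (κ (l * l) _) * _ = _ := Ti g ((κ l)⁻¹ n)
      have h8 := h2' ((κ l)⁻¹ n)⁻¹
      simp only [map_mul κ, MulAut.mul_apply, MulAut.apply_inv_self, map_inv (κ l), inv_inv] at h7 h8
      rw [← mul_assoc, h7, mul_assoc, mul_assoc, ← transpose_mul, h8, transpose_mul, transpose_transpose])
    h2 (by rw [νm _ _ (Tc g), Tν, one_mul, νt U h5]) (ν0 U h5 h3)
  refine h3.mul_right_cancel ?_
  simp only [Finset.sum_mul, map_mul θ, mul_assoc, h2']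
  simp only [← mul_assoc]
  rw [hθ.swap, Fintype.card_fin, smul_mul_assoc]
  congr 1
  conv_rhs => rw [← h6, ← mul_assoc]
  rw [show T g = T' g from rfl, ← map_mul, inv_mul_cancel, map_one, one_mul]

theorem exists_phi (hθ : Sch θ) {m : ℕ} (ρ : N →* Matrix (Fin m) (Fin m) ℂ)
    (h : ∑ n, (θ n⁻¹).trace • ρ n = ((Fintype.card N : ℂ) / d) • 1) :
    ∃ Φ : Matrix (Fin d) (Fin d) ℂ →ₗ[ℂ] Matrix (Fin m) (Fin m) ℂ, (∀ n, Φ (θ n) = ρ n) ∧
      (∀ S T, Φ (S * T) = Φ S * Φ T) ∧ ∀ B, (∀ n, B * ρ n = ρ n * B) → ∀ T, B * Φ T = Φ T * B := by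
  set c : ℂ := (Fintype.card N : ℂ) / d with hc
  have h0 : c ≠ 0 := by simpa [hc] using hθ.card_ne
  let Φ : Matrix (Fin d) (Fin d) ℂ →ₗ[ℂ] Matrix (Fin m) (Fin m) ℂ :=
    { toFun T := c⁻¹ • ∑ n, (T * θ n⁻¹).trace • ρ n
      map_add' S T := by simp [add_mul, add_smul, Finset.sum_add_distrib]
      map_smul' b T := by simp [Finset.smul_sum, smul_smul, mul_left_comm] }
  have hΦ : ∀ T, Φ T = c⁻¹ • ∑ n, (T * θ n⁻¹).trace • ρ n := fun _ => rfl
  have h1 : ∀ x T, Φ (θ x * T) = ρ x * Φ T := fun x T => by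
    rw [hΦ, hΦ, mul_smul_comm, Finset.mul_sum]
    refine congrArg _ (Fintype.sum_equiv (Equiv.mulLeft x) _ _ fun n => ?_).symm
    rw [Equiv.coe_mulLeft, _root_.mul_inv_rev, map_mul, map_mul, mul_smul_comm, ← mul_assoc, trace_mul_cycle,
      ← mul_assoc, ← map_mul θ, inv_mul_cancel, map_one, one_mul]
  have h2 : Φ 1 = 1 := by rw [hΦ]; simp only [one_mul, h, inv_smul_smul₀ h0]
  refine ⟨Φ, fun n => by simpa [h2] using h1 n 1, fun S T => ?_, fun B hB T => ?_⟩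
  · have h3 := hθ.fourier S
    rw [Fintype.card_fin, ← hc, ← inv_smul_eq_iff₀ h0] at h3
    conv_lhs => rw [← h3]
    rw [hΦ S]
    simp only [smul_mul_assoc, Finset.sum_mul, map_smul, map_sum, h1]
  · simp only [hΦ, mul_smul_comm, smul_mul_assoc, Finset.mul_sum, Finset.sum_mul, hB]

end He

theorem Semi.heis {I : Type*} [AddCommGroup I] {N L : Subgroup X} {lam : X → I →+ ZMod 2}
    (h : Semi s N L lam) (gL : GoodS s L) {z₀ : X} (hz : z₀ ∈ N) (hz' : lam z₀ = 0)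
    (h1 : ∀ n ∈ N, lam n ≠ 0 → ∃ m ∈ N, n * m = z₀ * (m * n)) {a : X} (ha : a ∈ L)
    (ho : Odd (orderOf a)) (hL : L ≤ Cs s a)
    (hf : ∀ n ∈ N, lam (a * n * a⁻¹) = lam n → lam n = 0) {ψ : X → ℂ} (hψ : Irr s ψ)
    (h2 : ∀ g, s g = 1 → ψ (g * z₀) = -ψ g) : 0 ≤ eps s ψ := by
  classical
  have := Fintype.ofFinite X
  have := h.norm
  obtain ⟨m, ρ, hρ, hψ'⟩ := exists_sch hψ
  let iN : N →* s.ker := N.subtype.codRestrict s.ker fun n => h.sN n n.2
  have scal : ∀ z : N, lam z = 0 → ∃ c : ℂ, ρ (iN z) = c • 1 := fun z h0 => hρ.2 _ fun g => by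
    rw [← map_mul, ← map_mul]
    exact congrArg ρ (Subtype.ext ((h.cen z z.2 h0).2 g).symm)
  have hm : (m : ℂ) ≠ 0 := by simpa using hρ.card_ne
  obtain ⟨χ, hχ, h3⟩ := exists_irr_inner_ne_zero (isClassFunction_of_isCharacter (isCharacter_trace (ρ.comp iN)))
    fun e => hm (by simpa using congrFun e 1)
  have fact : ∀ {d : ℕ} {θ : N →* Matrix (Fin d) (Fin d) ℂ}, Sch θ → (∀ n, (θ n).trace = χ n) →
      ∀ z : N, lam z = 0 → ∀ c : ℂ, ρ (iN z) = c • 1 → θ z = c • 1 := by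
    intro d θ hθ e z h0 c hc
    obtain ⟨μ, hμ⟩ := hθ.2 (θ z) fun g => by
      rw [← map_mul, ← map_mul]
      exact congrArg θ (Subtype.ext ((h.cen z z.2 h0).2 g).symm)
    rw [← funext e, finrank_Hm, Nat.cast_ne_zero, ← Nat.one_le_iff_ne_zero, Submodule.one_le_finrank_iff,
      Submodule.ne_bot_iff] at h3
    obtain ⟨Y, hY, hY0⟩ := h3
    have h4 := hY z
    rw [MonoidHom.comp_apply, hc, hμ, Matrix.smul_mul, Matrix.mul_smul, Matrix.one_mul, Matrix.mul_one] at h4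
    rw [hμ, smul_left_injective ℂ hY0 h4]
  have hz₀ : ρ (iN ⟨z₀, hz⟩) = (-1 : ℂ) • 1 := by
    obtain ⟨c, hc⟩ := scal ⟨z₀, hz⟩ hz'
    have h4 := h2 1 (map_one s)
    rw [one_mul, ← show _ = ψ z₀ from hψ' (iN ⟨z₀, hz⟩), ← show _ = ψ 1 from hψ' 1, hc] at h4
    rw [hc, mul_right_cancel₀ hm (show c * m = -1 * m by simpa using h4)]
  obtain ⟨d, θ₀, hθ₀, e₀⟩ := exists_sch hχ
  have hcl := isClassFunction_of_isIrr hχ
  have χ0 : ∀ n : N, lam n ≠ 0 → χ n = 0 := fun n hn => by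
    obtain ⟨y, hy, e⟩ := h1 n n.2 hn
    have h4 := hcl n ⟨y, hy⟩
    have h5 : n = ⟨z₀, hz⟩ * (⟨y, hy⟩ * n * (⟨y, hy⟩ : N)⁻¹) :=
      Subtype.ext (by simpa [mul_assoc] using eq_mul_inv_of_mul_eq e)
    have h6 := e₀ n
    rw [h5, map_mul, fact hθ₀ e₀ _ hz' _ hz₀, smul_mul_assoc, one_mul, trace_smul, e₀, h4, ← h5, smul_eq_mul] at h6
    linear_combination -h6 / 2
  have inv0 : ∀ n : N, lam n = 0 → n⁻¹ = n := fun n hn =>
    inv_eq_of_mul_eq_one_right (Subtype.ext (h.cen n n.2 hn).1)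
  have conj0 : ∀ (l : X) (n : N), lam n = 0 → MulAut.conjNormal l n = n := fun l n hn =>
    Subtype.ext (by simp [(h.cen n n.2 hn).2 l])
  have hinv : ∀ n, χ n⁻¹ = χ n := fun n => by
    by_cases hn : lam n = 0
    · rw [inv0 n hn]
    · rw [χ0 n hn, χ0 _ fun e => hn (by rw [← inv_inv n, inv0 _ e, e])]
  have htr : ∀ (l : X) n, χ (MulAut.conjNormal l n) = χ n := fun l n => by
    by_cases hn : lam n = 0
    · rw [conj0 l n hn]
    · refine (χ0 _ fun e => hn ?_).trans (χ0 n hn).symm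
      have h4 := conj0 l⁻¹ _ e
      rw [map_inv, MulAut.inv_apply_self] at h4
      rw [h4, e]
  obtain ⟨θ, ζ, hθ, e, hζ, hD⟩ := He.exists_diag hθ₀ (MulAut.conjNormal a) (fun n => by rw [e₀, e₀, htr])
    (orderOf_pos a).ne' (by rw [← map_pow, pow_orderOf_eq_one, map_one])
  replace e := fun n => (e n).trans (e₀ n)
  set k := (Finset.univ.filter fun n : N => lam n = 0).card with hk
  have hsum : ∀ {r : ℕ} (α : N →* Matrix (Fin r) (Fin r) ℂ), (∀ z : N, lam z = 0 → ∀ c : ℂ, ρ (iN z) = c • 1 →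
      α z = c • 1) → ∑ n, (θ n⁻¹).trace • α n = ((k * d : ℕ) : ℂ) • 1 := fun α hα => by
    rw [Finset.sum_congr rfl (g := fun n : N => if lam n = 0 then (d : ℂ) • 1 else 0), ← Finset.sum_filter,
      Finset.sum_const, ← Nat.cast_smul_eq_nsmul ℂ, smul_smul, Nat.cast_mul]
    intro n _
    split_ifs with hn
    · obtain ⟨c, hc⟩ := scal n hn
      have h4 := congrArg trace (map_mul θ n⁻¹ n)
      rw [inv_mul_cancel, map_one, fact hθ e n hn c hc, mul_smul_comm, mul_one, trace_smul] at h4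
      rw [hα n hn c hc, smul_smul, mul_comm, ← smul_eq_mul, ← h4]
      simp
    · rw [e, hinv, χ0 n hn, zero_smul]
  have hd0 : (d : ℂ) ≠ 0 := by simpa using hθ.card_ne
  have hkd : ((k * d : ℕ) : ℂ) = Fintype.card N / d := by
    have h4 := hθ.fourier 1
    simp only [one_mul, hsum θ (fact hθ e), Fintype.card_fin] at h4
    have := hθ.1
    exact smul_left_injective ℂ one_ne_zero h4
  obtain ⟨j, hj⟩ := IsPGroup.iff_card.1 (show IsPGroup 2 N from fun n => ⟨2, Subtype.ext (by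
    have h4 : lam (n * n) = 0 := by
      rw [h.mul n n.2 n n.2]
      ext y
      exact CharTwo.add_self_eq_zero _
    simpa [pow_succ, mul_assoc] using (h.cen _ (N.mul_mem n.2 n.2) h4).1)⟩)
  have hd : d ∣ 2 ^ j := ⟨k * d, by
    rw [← hj, Nat.card_eq_fintype_card, ← Nat.cast_inj (R := ℂ), Nat.cast_mul, hkd, mul_div_cancel₀ _ hd0]⟩
  obtain ⟨T, hT, hT'⟩ := He.ext (s := s.comp L.subtype) (MulAut.conjNormal.comp L.subtype) hθ
    (fun l n => by rw [e, e]; exact htr l n) (fun n => by rw [e, e, hinv]) (a := ⟨a, ha⟩)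
    (fun l => Subtype.ext (by simpa using mem_Cs.1 (hL l.2))) (orderOf_pos a).ne' hζ hD hd (by
      rw [← hkd, Finset.sum_congr rfl (g := fun n : N => if lam n = 0 then (d : ℂ) else 0), ← Finset.sum_filter,
        Finset.sum_const, nsmul_eq_mul, Nat.cast_mul]
      intro n _
      change (θ (MulAut.conjNormal a n * n⁻¹)).trace = _
      split_ifs with hn
      · simp [conj0 a n hn]
      · refine (e _).trans (χ0 _ fun h4 => hn (hf n n.2 ?_))
        have h5 := h.mul _ (MulAut.conjNormal a n * n⁻¹).2 n n.2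
        rw [h4, zero_add] at h5
        simpa using h5)
  obtain ⟨Φ, Φθ, Φm, Φc⟩ := He.exists_phi hθ (ρ.comp iN) (hkd ▸ hsum _ fun _ _ _ h4 => h4)
  let jL : (s.comp L.subtype).ker →* s.ker := (L.subtype.comp (Subgroup.subtype _)).codRestrict s.ker fun l => l.2
  have hc : ∀ l S, Φ (T l⁻¹) * ρ (jL l) * Φ S = Φ S * (Φ (T l⁻¹) * ρ (jL l)) := fun l => Φc _ fun n => by
    have h4 := hT l⁻¹ (MulAut.conjNormal (l.1 : X) n)
    have h5 : (MulAut.conjNormal.comp L.subtype) (l⁻¹ : (s.comp L.subtype).ker)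
      (MulAut.conjNormal (l.1 : X) n) = n := Subtype.ext (by simp [mul_assoc])
    rw [h5] at h4
    rw [← mul_assoc, ← Φθ n, ← Φm, h4, Φm, Φθ, Φθ, mul_assoc, mul_assoc, MonoidHom.comp_apply,
      MonoidHom.comp_apply, ← map_mul ρ, ← map_mul ρ]
    exact congrArg (_ * ρ ·) (Subtype.ext (inv_mul_cancel_right _ (l.1 : X)).symm)
  let σ : (s.comp L.subtype).ker →* Matrix (Fin m) (Fin m) ℂ :=
    { toFun l := Φ (T l⁻¹) * ρ (jL l)
      map_one' := by simpa using Φθ 1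
      map_mul' l l' := by
        rw [← mul_assoc, hc, _root_.mul_inv_rev, map_mul, Φm, map_mul, map_mul]
        simp only [mul_assoc] }
  have h4 := gL (extendByZero _ fun l => (σ l).trace) (by simpa [Ch, extendByZero_coe] using isCharacter_trace σ)
  refine (mul_nonneg (Nat.cast_nonneg (k * d)) h4).trans_eq ?_
  rw [h.eps_sum, eps_eq, Finset.mul_sum]
  refine Finset.sum_congr rfl fun l _ => ?_
  by_cases hl : s l = 1
  · simp [hl]
  rw [if_neg hl, if_neg (show ¬ (s.comp L.subtype) l = 1 from hl), extendByZero_of_mem _ _ (s_sq _ l), hkd]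
  have h5 := congrArg (fun M => (Φ M * ρ (jL ⟨l * l, s_sq _ l⟩)).trace) (hT' l (s_ne.1 hl))
  simp only [map_sum, Finset.sum_mul, trace_sum, Φθ, MonoidHom.comp_apply, ← map_mul ρ, hψ', map_smul,
    smul_mul_assoc, trace_smul, smul_eq_mul] at h5
  exact h5.symm

end CfsgLib.FsTw
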