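import Cfsg.Agent.Lib.FsTw.Geo

/-!
The sesquilinear form of a quadratic space over a simple ring with involution.
-/

set_option autoImplicit false
set_option linter.unusedSectionVars false

namespace CfsgLib.FsTw

open QuadraticMap CfsgLib.Orth

universe u

variable {V R : Type u} [AddCommGroup V] [Module (ZMod 2) V] [CommRing R] [Algebra (ZMod 2) R]
  [Module R V] [IsScalarTower (ZMod 2) R V] {Q : QuadraticForm (ZMod 2) V} {σ : R →+* R}
  {t : R →+ ZMod 2} {h : V → V → R}

instance finite_OG_herm [Finite V] : Finite (OG Q) :=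
  have : Finite (V ≃ₗ[ZMod 2] V) := DFunLike.finite _
  inferInstance

namespace Herm

variable (H : Herm Q σ t h)
include H

theorem ext {a b : R} (e : ∀ r, t (r * a) = t (r * b)) : a = b :=
  sub_eq_zero.1 (H.tnd _ fun r => by rw [mul_sub, map_sub, e, sub_self])

theorem add_left (x x' y : V) : h (x + x') y = h x y + h x' y := H.ext fun r => by
  rw [mul_add, map_add, H.spec, H.spec, H.spec, smul_add, polar_add_left]

theorem add_right (x y y' : V) : h x (y + y') = h x y + h x y' := H.ext fun r => by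
  rw [mul_add, map_add, H.spec, H.spec, H.spec, polar_add_right]

theorem smul_left (c : R) (x y : V) : h (c • x) y = c * h x y := H.ext fun r => by
  rw [H.spec, ← mul_assoc, H.spec, mul_smul]

theorem polar_eq (x y : V) : polar Q x y = t (h x y) := by simpa using (H.spec 1 x y).symm

theorem eq_zero_iff {x y : V} : h x y = 0 ↔ ∀ r : R, polar Q (r • x) y = 0 :=
  ⟨fun e r => by rw [← H.spec, e, mul_zero, map_zero], fun e => H.tnd _ fun r => by rw [H.spec, e]⟩

theorem zero_left (y : V) : h 0 y = 0 := H.eq_zero_iff.2 fun r => by simp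

theorem zero_right (x : V) : h x 0 = 0 := H.eq_zero_iff.2 fun r => by simp

theorem t_tw (δ : ℤˣ) (r : R) : t (tw σ δ r) = t r := by
  rcases Int.units_eq_one_or δ with rfl | rfl <;> simp [H.tσ]

variable (D : Dat Q σ)
include D

theorem swap (x y : V) : h y x = σ (h x y) := H.ext fun r => by
  rw [H.spec, ← H.tσ (r * σ _), map_mul, D.σσ, H.spec, polar_comm, D.adj']

theorem smul_right (c : R) (x y : V) : h x (c • y) = σ c * h x y := by
  rw [H.swap D, H.smul_left, map_mul, ← H.swap D]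

theorem polar_smul (r r' : R) (x y : V) : polar Q (r • x) (r' • y) = t (r * σ r' * h x y) := by
  rw [H.polar_eq, H.smul_left, H.smul_right D, mul_assoc]

theorem map {g : OG Q × ℤˣ} (hg : g ∈ D.Gam) (x y : V) :
    h (g.1.1 x) (g.1.1 y) = tw σ g.2 (h x y) := H.ext fun r => by
  rw [H.spec, ← D.tw_tw g.2 r, ← hg, OG.map_polar, ← map_mul, H.t_tw, H.spec]

theorem map_fix {g : OG Q × ℤˣ} (hg : g ∈ D.Gam) (x : V) {y : V} (hy : g.1.1 y = y) :
    h (g.1.1 x) y = tw σ g.2 (h x y) := by rw [← H.map D hg, hy]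

theorem map_fix' {g : OG Q × ℤˣ} (hg : g ∈ D.Gam) {x : V} (hx : g.1.1 x = x) (y : V) :
    h x (g.1.1 y) = tw σ g.2 (h x y) := by rw [← H.map D hg, hx]

theorem swap_zero {x y : V} (e : h x y = 0) : h y x = 0 := by rw [H.swap D, e, map_zero]

theorem self_of_sing {u : V} (hu : ∀ r : R, Q (r • u) = 0) : h u u = 0 :=
  H.eq_zero_iff.2 fun r => by
    have := Q_add Q (r • u) ((1 : R) • u)
    rwa [← add_smul, hu, hu, hu, one_smul, zero_add, zero_add, eq_comm] at this

theorem mem_perp_span {u x : V} : x ∈ D.perp (R ∙ u) ↔ h x u = 0 :=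
  ⟨fun e => H.swap_zero D (H.eq_zero_iff.2 fun r => polar_comm Q x _ ▸ e _
    (Submodule.smul_mem _ _ (Submodule.mem_span_singleton_self u))), fun e y hy => by
      obtain ⟨r, rfl⟩ := Submodule.mem_span_singleton.1 hy
      rw [H.polar_eq, H.smul_right D, e, mul_zero, map_zero]⟩

theorem mem_perp_pair {u u' x : V} :
    x ∈ D.perp (Submodule.span R {u, u'}) ↔ h x u = 0 ∧ h x u' = 0 :=
  ⟨fun e => ⟨(H.mem_perp_span D).1 fun y hy => e y (Submodule.span_mono (by simp) hy),
    (H.mem_perp_span D).1 fun y hy => e y (Submodule.span_mono (by simp) hy)⟩, fun e y hy => by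
      obtain ⟨a, b, rfl⟩ := Submodule.mem_span_pair.1 hy
      simp [H.polar_eq, H.add_right, H.smul_right D, e.1, e.2]⟩

theorem exists_smul [Finite V] {v x : V} (e : ∀ y, h y v = 0 → h x y = 0) : ∃ r : R, x = r • v := by
  obtain ⟨r, hr⟩ := Submodule.mem_span_singleton.1 (D.mem_of_perp_perp (W := R ∙ v) (x := x)
    fun y hy => by rw [H.polar_eq, e y ((H.mem_perp_span D).1 hy), map_zero])
  exact ⟨r, hr.symm⟩

end Herm

variable [Finite R]

theorem exists_rep (ht : ∀ c, (∀ r, t (r * c) = 0) → c = 0) (f : R →+ ZMod 2) :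
    ∃ c, ∀ r, t (r * c) = f r := by
  let Φ : R →ₗ[ZMod 2] Module.Dual (ZMod 2) R :=
    (LinearMap.mul (ZMod 2) R).flip.compr₂ (t.toZModLinearMap 2)
  obtain ⟨c, hc⟩ := (LinearMap.injective_iff_surjective_of_finrank_eq_finrank (f := Φ)
    Subspace.dual_finrank_eq.symm).1 ((injective_iff_map_eq_zero Φ).2 fun c hc =>
      ht c (LinearMap.congr_fun hc)) (f.toZModLinearMap 2)
  exact ⟨c, LinearMap.congr_fun hc⟩

namespace Dat

variable (D : Dat Q σ)
include D

theorem idem_or_smp (hf : ∀ r : R, (∀ x : V, r • x = 0) → r = 0) :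
    (∃ e : R, e * e = e ∧ σ e = e ∧ (∃ x : V, e • x ≠ 0) ∧ ∃ x : V, e • x ≠ x) ∨ Smp V σ := by
  refine or_iff_not_imp_left.2 fun h => ⟨hf, fun r hr => ?_⟩
  obtain ⟨m, hm⟩ := D.exists_pow
  obtain ⟨k, hk⟩ : ∃ k, 2 ^ (m + 1) = k + 2 := ⟨2 ^ (m + 1) - 2, by
    have := Nat.one_lt_two_pow (n := m + 1) (by simp); omega⟩
  have h1 : r ^ (k + 1) * r = r := by rw [← pow_succ, ← hk, hm]
  push Not at h
  by_cases h2 : ∀ x : V, r ^ (k + 1) • x = 0
  · exact Or.inl (by rw [← h1, hf _ h2, zero_mul])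
  · have := hf (r ^ (k + 1) - 1) fun x => by
      rw [sub_smul, h _ (by linear_combination r ^ k * h1) (by rw [map_pow, hr])
        (not_forall.1 h2), one_smul, sub_self]
    exact Or.inr (IsUnit.of_pow_eq_one (sub_eq_zero.1 this) k.succ_ne_zero)

variable (S : Smp V σ)
include S

theorem unit_trace {x : R} (hx : x + σ x ≠ 0) : IsUnit (x + σ x) :=
  (S.fix _ (by rw [map_add, D.σσ, add_comm])).resolve_left hx

theorem span {x : R} (hx : x ≠ 0) : ∃ a b, a * x + b * σ x = 1 := by
  rcases S.fix (x * σ x) (by rw [map_mul, D.σσ, mul_comm]) with h | h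
  · obtain ⟨a, ha⟩ := (D.unit_trace S (x := x) fun e => hx (D.eq_zero_of_sq (by
      linear_combination x * e - h))).exists_left_inv
    exact ⟨a, a, by rw [← mul_add, ha]⟩
  · obtain ⟨a, ha⟩ := h.exists_left_inv
    exact ⟨a * σ x, 0, by linear_combination ha⟩

theorem dich : (∀ r, σ r = r) ∨ ∃ a : R, a * σ a = 1 ∧ IsUnit (a + 1) := by
  by_cases h : ∀ a : R, a * σ a = 1 → a = 1
  · exact Or.inl fun r => sub_eq_zero.1 (S.faith _ fun x => by
      rw [sub_smul, D.un x (fun a ha => by rw [h a ha, one_smul]), sub_self])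
  push Not at h
  obtain ⟨a, h1, h2⟩ := h
  refine Or.inr ⟨a, h1, isUnit_of_mul_isUnit_left (y := σ a + 1) ?_⟩
  rw [show (a + 1) * (σ a + 1) = a + σ a by linear_combination h1 + add_self_R (1 : R)]
  exact D.unit_trace S fun e => h2 (D.sq_bij.1 (by
    linear_combination a * e - h1 - add_self_R (1 : R)))

theorem trace_surj (hσ : ¬ ∀ r, σ r = r) {x : R} (hx : x ≠ 0) {c : R} (hc : σ c = c) :
    ∃ r, x * r + σ (x * r) = c := by
  obtain ⟨r, hr⟩ : ∃ r, x * r + σ (x * r) ≠ 0 := by
    by_contra! h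
    have h1 : ∀ r, σ (x * r) = x * r := fun r => by linear_combination h r - add_self_R (x * r)
    have h2 : σ x = x := by simpa using h1 1
    exact hσ fun r => ((S.fix x h2).resolve_left hx).mul_left_cancel (by rw [← h1 r, map_mul, h2])
  obtain ⟨m, hm⟩ := (D.unit_trace S hr).exists_right_inv
  have h1 : σ m = m := by
    have := congrArg σ hm
    rw [map_mul, map_add, D.σσ, map_one] at this
    linear_combination m * this - σ m * hm
  exact ⟨r * (m * c), by simp only [map_mul, h1, hc] at hm ⊢; linear_combination c * hm⟩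

theorem exists_herm [Nontrivial R] : ∃ t h, Herm Q σ t h := by
  obtain ⟨T, h1, r₀, h2⟩ : ∃ T : R →+ R, (∀ r, T (σ r) = T r) ∧ ∃ r, T r ≠ 0 := by
    by_cases hσ : ∀ r, σ r = r
    · exact ⟨.id R, hσ, 1, one_ne_zero⟩
    · obtain ⟨r, hr⟩ := D.trace_surj S hσ one_ne_zero (map_one σ)
      exact ⟨.id R + σ, fun r => by simp [D.σσ, add_comm], r, by simpa using hr.trans_ne one_ne_zero⟩
  obtain ⟨l, hl⟩ := not_forall.1 (mt (Module.forall_dual_apply_eq_zero_iff (ZMod 2) _).1 h2)
  have h3 : ∀ c, (∀ r, l.toAddMonoidHom.comp T (r * c) = 0) → c = 0 := fun c hc => by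
    by_contra h0
    obtain ⟨a, b, hab⟩ := D.span S h0
    have h4 := hc (σ (r₀ * b))
    rw [AddMonoidHom.comp_apply, ← h1, map_mul, D.σσ] at h4
    refine hl ?_
    rw [show r₀ = r₀ * a * c + r₀ * b * σ c by linear_combination -r₀ * hab, map_add, map_add]
    exact (congrArg₂ (· + ·) (hc _) h4).trans (add_zero _)
  choose h hh using fun x y => exists_rep h3 (AddMonoidHom.mk' (fun r : R => polar Q (r • x) y)
    fun a b => by rw [add_smul, polar_add_left])
  exact ⟨_, h, fun r => congrArg l (h1 r), h3, fun r x y => hh x y r⟩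

omit S in
theorem polar_of_id (hσ : ∀ r, σ r = r) (a b : R) (y : V) : polar Q (a • y) (b • y) = 0 := by
  obtain ⟨e, he⟩ := D.sq (a * b)
  rw [D.adj, hσ, smul_smul, he, mul_smul, D.adj', hσ, polar_self_eq]

theorem exists_c (H : Herm Q σ t h) (y : V) : ∃ c, ∀ r, Q (r • y) = t (c * (r * σ r)) := by
  by_cases hσ : ∀ r, σ r = r
  · choose q hq using D.sq_bij.2
    obtain ⟨c, hc⟩ := exists_rep H.tnd (AddMonoidHom.mk' (fun r : R => Q (q r • y)) fun a b => by
      rw [show q (a + b) = q a + q b from D.sq_bij.1 (by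
        linear_combination hq (a + b) - hq a - hq b - add_self_R (q a * q b)), add_smul, Q_add,
        D.polar_of_id hσ, add_zero])
    exact ⟨c, fun r => by rw [mul_comm, hσ, hc, AddMonoidHom.mk'_apply, D.sq_bij.1 (hq _)]⟩
  obtain ⟨a, h1, h2⟩ := (D.dich S).resolve_left hσ
  have : Nontrivial R := not_subsingleton_iff_nontrivial.1 fun _ => hσ fun _ => Subsingleton.elim _ _
  obtain ⟨c, hc⟩ := D.trace_surj S hσ one_ne_zero (H.swap D y y).symm
  refine ⟨c, fun r => ?_⟩
  obtain ⟨b, hb⟩ := h2.exists_right_inv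
  have h3 := H.tσ (c * (b * r * (σ a * σ (b * r))))
  rw [show r = a * (b * r) + b * r by linear_combination -r * hb, add_smul, Q_add, H.polar_smul D,
    mul_smul, D.Q_norm h1, add_self_R, zero_add, ← hc, one_mul, mul_add, map_add, mul_comm _ (σ c)]
  simp only [map_mul, D.σσ, map_add] at h3 ⊢
  rw [show σ c * (a * (b * r) * (σ b * σ r)) = σ c * (σ b * σ r * (a * (b * r))) by ring, h3,
    ← map_add]
  congr 1
  linear_combination -c * b * r * σ b * σ r * h1 - add_self_R (c * b * r * σ b * σ r)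

end Dat

end CfsgLib.FsTw
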