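import Cfsg.Agent.Lib.FsTw.Model
import Cfsg.Agent.Lib.Char.Square

/-!
From the absence of quaternionic characters to indicator one.
-/

set_option autoImplicit false

namespace CfsgLib.FsTw

open Cfsg CfsgLib.Char
open scoped ComplexOrder

variable {G : Type*} [Group G] [Finite G]

theorem NQ.of_surj {H : Type*} [Group H] (h : NQ G) (f : G →* H) (hf : Function.Surjective f) :
    NQ H := fun χ hχ => by
  have := Finite.of_surjective f hf
  have := Fintype.ofFinite G
  have := Fintype.ofFinite H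
  have h1 := h _ (isCharacter_comp f hχ)
  simp only [finsum_eq_sum_of_fintype, map_mul] at h1 ⊢
  rw [sum_comp_of_surjective f hf fun y => χ (y * y)] at h1
  exact nonneg_of_nat_mul Nat.card_pos.ne' h1

theorem NQ.ind_one (h : NQ G) (hr : ∀ g : G, ∃ t, t * g * t⁻¹ = g⁻¹) {χ : G → ℂ}
    (hχ : IsIrrCharacter G χ) : ∑ᶠ g, χ (g * g) = Nat.card G := by
  have := Fintype.ofFinite G
  have hc := isCharacter_of_isIrr hχ
  have h1 := h χ hc
  have h2 := fsInd_eq_of_conj_eq hχ (funext fun g => by
    obtain ⟨t, ht⟩ := hr g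
    rw [← char_inv hc, ← ht, isClassFunction_of_isCharacter hc])
  rw [finsum_eq_sum_of_fintype] at h1 ⊢
  simp only [fsInd, inv_mul_eq_iff_eq_mul₀ (natCard_ne_zero (G := G)), mul_one, mul_neg] at h2
  refine h2.resolve_right fun e => ?_
  rw [e, neg_nonneg] at h1
  exact natCard_ne_zero (G := G) (le_antisymm h1 (Nat.cast_nonneg _))

theorem nq_ker (s : G →* ℤˣ) (h : ∀ χ, IsIrrCharacter G χ → ∑ᶠ g, χ (g * g) = Nat.card G) :
    NQ s.ker := fun φ hφ => by
  classical
  have := Fintype.ofFinite G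
  have k : ∀ ψ, IsCharacter G ψ → ψ = 0 ∨ ∃ n : ℕ, ∑ g, ψ (g * g) = (n + 1) * Nat.card G := fun ψ hψ => by
    refine isCharacter_induction (P := fun ψ => ψ = 0 ∨ ∃ n : ℕ, ∑ g, ψ (g * g) = (n + 1) * Nat.card G) (Or.inl rfl)
      (fun χ ψ h1 _ h2 => Or.inr ?_) hψ
    have h3 := h χ h1
    rw [finsum_eq_sum_of_fintype] at h3
    rcases h2 with rfl | ⟨n, hn⟩
    · exact ⟨0, by simpa using h3⟩
    · exact ⟨n + 1, by simp only [Pi.add_apply, Finset.sum_add_distrib, h3, hn]; push_cast; ring⟩
  rw [finsum_eq_sum_of_fintype]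
  refine isCharacter_induction (P := fun φ => 0 ≤ ∑ g : s.ker, φ (g * g)) (by simp) (fun φ ψ h1 _ h2 => ?_) hφ
  simp only [Pi.add_apply, Finset.sum_add_distrib]
  refine add_nonneg ?_ h2
  obtain ⟨n, hn⟩ := (k _ (isCharacter_indFun s.ker (isCharacter_of_isIrr h1))).resolve_left fun e => by
    have := congrFun e 1
    rw [indFun_one, Pi.zero_apply, mul_eq_zero, Nat.cast_eq_zero] at this
    exact this.elim Subgroup.index_ne_zero_of_finite (irr_one_ne_zero h1)
  have e1 : ∀ x : G, ∑ g, extendByZero s.ker φ (x * (g * g) * x⁻¹) = ∑ g, extendByZero s.ker φ (g * g) := fun x =>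
    Fintype.sum_equiv (MulAut.conj x).toEquiv _ _ fun g => by simp [mul_assoc]
  simp only [indFun_apply', ← Finset.mul_sum] at hn
  rw [Finset.sum_comm] at hn
  simp only [e1, Finset.sum_const, Finset.card_univ, nsmul_eq_mul, ← Nat.card_eq_fintype_card] at hn
  have e2 : ∑ g, extendByZero s.ker φ (g * g) = ∑ g : s.ker, φ (g * g) + eps s (extendByZero s.ker φ) := by
    rw [eps_eq, ← sum_extendByZero s.ker fun g => φ (g * g), ← Finset.sum_add_distrib]
    refine Finset.sum_congr rfl fun g _ => ?_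
    by_cases hg : s g = 1
    · rw [if_pos hg, add_zero, extendByZero_of_mem _ _ (show g ∈ s.ker from hg),
        extendByZero_of_mem _ _ (show g * g ∈ s.ker from s_sq s g)]
      rfl
    · rw [if_neg hg, extendByZero_of_not_mem _ _ (show g ∉ s.ker from hg), zero_add]
  have e3 : ∑ g : s.ker, φ (g * g) = (n + 1) * Nat.card s.ker - eps s (extendByZero s.ker φ) := by
    rw [eq_sub_iff_add_eq, ← e2]
    have h0 := natCard_ne_zero (G := G)
    have h0' := natCard_ne_zero (G := s.ker)
    field_simp at hn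
    linear_combination hn
  have hi : Irr s (extendByZero s.ker φ) := by simpa [Irr, extendByZero_coe]
  rw [e3]
  rcases hi.eps_tri with e | e | e <;> rw [e]
  · exact (Nat.cast_nonneg ((n + 1) * Nat.card s.ker)).trans_eq (by push_cast; ring)
  · exact (Nat.cast_nonneg (n * Nat.card s.ker)).trans_eq (by push_cast; ring)
  · exact (Nat.cast_nonneg ((n + 2) * Nat.card s.ker)).trans_eq (by push_cast; ring)

end CfsgLib.FsTw
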