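import Cfsg.Agent.Lib.ChMisc.RealRep
import Cfsg.Agent.Lib.Char.Integral

/-!
Matrix representations with scalar commutant: averaging, intertwiners and skew forms on
spaces of intertwiners.
-/

set_option autoImplicit false

namespace CfsgLib.FsTw

open Cfsg CfsgLib.Char Matrix Module

variable {G : Type*} [Group G] {n k : Type} [Fintype n] [DecidableEq n] [Fintype k] [DecidableEq k]

/-- the representation given by matrices -/
noncomputable def rep (α : G →* Matrix n n ℂ) : Representation ℂ G (n → ℂ) :=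
  (Matrix.toLinAlgEquiv' (R := ℂ) (n := n)).toMonoidHom.comp α

theorem rep_apply (α : G →* Matrix n n ℂ) (g : G) : rep α g = Matrix.toLin' (α g) := rfl

theorem rep_character (α : G →* Matrix n n ℂ) : (rep α).character = fun g => (α g).trace :=
  funext fun g => Matrix.trace_toLin'_eq (α g)

theorem isCharacter_trace (α : G →* Matrix n n ℂ) : IsCharacter G fun g => (α g).trace :=
  rep_character α ▸ isCharacter_of_rep _

theorem isCharacter_trace_mul (α : G →* Matrix n n ℂ) {e : Matrix n n ℂ} (he : e * e = e)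
    (h : ∀ g, e * α g = α g * e) : IsCharacter G fun g => (e * α g).trace := by
  have := isCharacter_trace_comp_idempotent (ρ := rep α) ⟨Matrix.toLin' e, fun g => by
    rw [rep_apply, ← Matrix.toLin'_mul, ← Matrix.toLin'_mul, h]⟩ fun v => by
      change Matrix.toLin' e (Matrix.toLin' e v) = Matrix.toLin' e v
      rw [← Matrix.toLin'_mul_apply, he]
  simpa only [rep_apply, ← Matrix.toLin'_mul, Matrix.trace_toLin'_eq, h] using this

/-- the contragredient -/
def dual (α : G →* Matrix n n ℂ) : G →* Matrix n n ℂ where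
  toFun g := (α g⁻¹)ᵀ
  map_one' := by simp
  map_mul' g h := by rw [_root_.mul_inv_rev, map_mul, transpose_mul]

theorem dual_apply (α : G →* Matrix n n ℂ) (g : G) : dual α g = (α g⁻¹)ᵀ := rfl

/-- the intertwiners -/
def Hm (α : G →* Matrix n n ℂ) (β : G →* Matrix k k ℂ) : Submodule ℂ (Matrix n k ℂ) where
  carrier := {Y | ∀ g, α g * Y = Y * β g}
  add_mem' ha hb g := by rw [Matrix.mul_add, Matrix.add_mul, ha g, hb g]
  zero_mem' g := by simp
  smul_mem' c Y h g := by rw [Matrix.mul_smul, Matrix.smul_mul, h g]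

theorem exists_trace_ne {Y : Matrix k n ℂ} (h : Y ≠ 0) : ∃ Z : Matrix n k ℂ, (Y * Z).trace ≠ 0 := by
  by_contra! h1
  refine h (Matrix.ext fun i j => ?_)
  simpa [trace_mul_single] using h1 (single j i 1)

/-- the commutant is scalar -/
def Sch (α : G →* Matrix n n ℂ) : Prop :=
  Nonempty n ∧ ∀ T : Matrix n n ℂ, (∀ g, T * α g = α g * T) → ∃ c : ℂ, T = c • 1

theorem exists_sch {χ : G → ℂ} (h : IsIrrCharacter G χ) :
    ∃ (m : ℕ) (α : G →* Matrix (Fin m) (Fin m) ℂ), Sch α ∧ ∀ g, (α g).trace = χ g := by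
  obtain ⟨m, ρ, h1, rfl⟩ := h
  refine ⟨m, ChMisc.mat ρ, ⟨?_, fun T hT => ChMisc.exists_scalar hT⟩, ChMisc.trace_mat ρ⟩
  simpa [Fin.pos_iff_nonempty] using finrank_pos_of_isIrreducible ρ

theorem exists_mat {χ : G → ℂ} (h : IsCharacter G χ) :
    ∃ (m : ℕ) (α : G →* Matrix (Fin m) (Fin m) ℂ), ∀ g, (α g).trace = χ g := by
  obtain ⟨m, ρ, rfl⟩ := h
  exact ⟨m, ChMisc.mat ρ, ChMisc.trace_mat ρ⟩

variable {α α' : G →* Matrix n n ℂ} {β : G →* Matrix k k ℂ}

theorem Sch.comp {H : Type*} [Group H] (h : Sch α) {f : H →* G} (hf : Function.Surjective f) :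
    Sch (α.comp f) :=
  ⟨h.1, fun T hT => h.2 T fun g => by obtain ⟨x, rfl⟩ := hf g; exact hT x⟩

theorem Sch.card_ne (h : Sch α) : (Fintype.card n : ℂ) ≠ 0 := by
  have := h.1
  simp

theorem Sch.conj (h : Sch α) (P : (Matrix n n ℂ)ˣ) :
    Sch ((MulAut.conj P⁻¹).toMonoidHom.comp α.toHomUnits |> (Units.coeHom _).comp) := by
  refine ⟨h.1, fun T hT => (h.2 (P * T * P⁻¹) fun g => ?_).imp fun c hc => ?_⟩
  · have := congrArg (fun x => P.1 * x * P⁻¹.1) (hT g)
    simpa [mul_assoc] using this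
  · have := congrArg (fun x => P⁻¹.1 * x * P.1) hc
    simpa [mul_assoc] using this

theorem Sch.eq_smul (h : Sch α) {u T : Matrix n n ℂ} (hu : IsUnit u) (h1 : u ∈ Hm α α')
    (h2 : T ∈ Hm α α') : ∃ c : ℂ, T = c • u := by
  obtain ⟨u, rfl⟩ := hu
  obtain ⟨c, hc⟩ := h.2 (T * u⁻¹.1) fun g => by
    rw [← mul_assoc, h2 g, mul_assoc, mul_assoc, ← Units.mul_inv_cancel_right (α g) u, h1 g]
    simp [mul_assoc]
  exact ⟨c, by rw [← Units.inv_mul_cancel_right T u, hc, smul_mul_assoc, one_mul]⟩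

variable [Fintype G]

theorem avg_mem (α : G →* Matrix n n ℂ) (β : G →* Matrix k k ℂ) (Y : Matrix n k ℂ) :
    ∑ g, α g * Y * β g⁻¹ ∈ Hm α β := fun x => by
  rw [Matrix.mul_sum, Matrix.sum_mul]
  exact Fintype.sum_equiv (Equiv.mulLeft x) _ _ fun g => by
    simp only [Equiv.coe_mulLeft, map_mul, Matrix.mul_assoc]
    rw [← map_mul β, _root_.mul_inv_rev, inv_mul_cancel_right]

theorem finrank_Hm (α : G →* Matrix n n ℂ) (β : G →* Matrix k k ℂ) :
    classInner (fun g => (α g).trace) (fun g => (β g).trace) = finrank ℂ (Hm α β) := by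
  rw [← rep_character, ← rep_character, classInner_rep]
  congr 1
  exact (LinearEquiv.finrank_eq
    { toFun := fun Y => ⟨Matrix.toLin' Y.1, fun g => by
        rw [rep_apply, rep_apply, ← Matrix.toLin'_mul, ← Matrix.toLin'_mul, Y.2 g]⟩
      invFun := fun F => ⟨LinearMap.toMatrix' F.1, fun g => Matrix.toLin'.injective (by
        rw [Matrix.toLin'_mul, Matrix.toLin'_mul, Matrix.toLin'_toMatrix']; exact (F.2 g).symm)⟩
      map_add' := fun _ _ => Representation.IntertwiningMap.ext (map_add Matrix.toLin' _ _)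
      map_smul' := fun _ _ => Representation.IntertwiningMap.ext (map_smul Matrix.toLin' _ _)
      left_inv := fun Y => Subtype.ext (LinearMap.toMatrix'_toLin' _)
      right_inv := fun F => Representation.IntertwiningMap.ext (Matrix.toLin'_toMatrix' _) }).symm

theorem Sch.avg (h : Sch α) (Y : Matrix n n ℂ) :
    ∑ g, α g * Y * α g⁻¹ = ((Fintype.card G : ℂ) / Fintype.card n * Y.trace) • 1 := by
  obtain ⟨c, hc⟩ := h.2 _ fun g => (avg_mem α α Y g).symm
  have h1 := congrArg trace hc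
  simp only [trace_sum, trace_mul_cycle (α _), ← map_mul, inv_mul_cancel, map_one, one_mul] at h1
  have := h.card_ne
  rw [hc]
  congr 1
  simp at h1
  field_simp
  linear_combination -h1

theorem Sch.entry (h : Sch α) (i j l k : n) : ∑ g, α g i j * α g⁻¹ l k =
    (Fintype.card G : ℂ) / Fintype.card n * if j = l ∧ i = k then 1 else 0 := by
  have := congrFun (congrFun (h.avg (single j l 1)) i) k
  rw [Matrix.sum_apply] at this
  simp only [Matrix.mul_assoc] at this
  simp only [mul_apply, single_apply, ite_and, ite_mul] at this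
  by_cases h2 : j = l <;> by_cases h3 : i = k <;> simpa [h2, h3, trace_single_eq_of_ne, one_apply]
    using this

theorem Sch.swap (h : Sch α) (A : Matrix n n ℂ) :
    ∑ g, α g * A * (α g⁻¹)ᵀ = ((Fintype.card G : ℂ) / Fintype.card n) • Aᵀ := by
  ext i l
  simp only [Matrix.sum_apply, mul_apply, transpose_apply, Finset.sum_mul]
  rw [Finset.sum_comm]
  simp only [mul_right_comm _ (A _ _)]
  refine (Finset.sum_congr rfl fun k _ => Finset.sum_comm).trans ?_
  simp [← Finset.sum_mul, h.entry, ite_and]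

theorem Sch.fourier (h : Sch α) (T : Matrix n n ℂ) :
    ∑ g, (T * α g⁻¹).trace • α g = ((Fintype.card G : ℂ) / Fintype.card n) • T := by
  ext i j
  simp only [Matrix.sum_apply, trace, diag, mul_apply, Matrix.smul_apply, smul_eq_mul,
    Finset.sum_mul]
  rw [Finset.sum_comm]
  simp only [mul_assoc, mul_comm (α _⁻¹ _ _)]
  refine (Finset.sum_congr rfl fun k _ => Finset.sum_comm).trans ?_
  simp [← Finset.mul_sum, h.entry, ite_and, mul_comm]

theorem Sch.isUnit (h : Sch α) {T : Matrix n n ℂ} (hT : T ∈ Hm α α') (h0 : T ≠ 0) : IsUnit T := by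
  obtain ⟨Y, hY⟩ := exists_trace_ne h0
  have h1 : T * ∑ g, α' g * Y * α g⁻¹ =
      ((Fintype.card G : ℂ) / Fintype.card n * (T * Y).trace) • 1 := by
    rw [Matrix.mul_sum]
    simp only [← mul_assoc, ← hT _]
    simp only [mul_assoc _ T]
    exact h.avg _
  have h2 : (Fintype.card G : ℂ) / Fintype.card n * (T * Y).trace ≠ 0 := by simp [h.card_ne, hY]
  exact (Matrix.isUnit_iff_isUnit_det T).2 (Matrix.isUnit_det_of_right_inverse
    (B := (_ : ℂ)⁻¹ • ∑ g, α' g * Y * α g⁻¹) (by rw [Matrix.mul_smul, h1, inv_smul_smul₀ h2]))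

theorem Sch.exists_unit (h : Sch α) (h1 : ∀ g, (α' g).trace = (α g).trace) :
    ∃ T ∈ Hm α α', IsUnit T := by
  have h2 := finrank_Hm α α'
  simp only [h1, finrank_Hm, Nat.cast_inj] at h2
  have := h.1
  have h3 : Hm α α ≠ ⊥ := (Submodule.ne_bot_iff _).2 ⟨1, fun g => by simp, one_ne_zero⟩
  rw [← Submodule.one_le_finrank_iff, h2, Submodule.one_le_finrank_iff,
    Submodule.ne_bot_iff] at h3
  obtain ⟨T, h4, h5⟩ := h3
  exact ⟨T, h4, h.isUnit h4 h5⟩

theorem even_finrank_Hm (c : G ≃ G) {u : Matrix n n ℂ} {w : Matrix k k ℂ} (hu : IsUnit u)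
    (hw : IsUnit w) (h1 : ∀ g, α (c g) * u = u * (α g⁻¹)ᵀ) (h2 : ∀ g, β (c g) * w = w * (β g⁻¹)ᵀ)
    {a : G} (h3 : α a * uᵀ = -u) (h4 : β a * wᵀ = w) : Even (finrank ℂ (Hm α β)) := by
  obtain ⟨u, rfl⟩ := hu
  let b : LinearMap.BilinForm ℂ (Hm α β) := LinearMap.mk₂ ℂ
    (fun Y Z => (w * Y.1ᵀ * u⁻¹.1 * Z.1).trace)
    (fun _ _ _ => by simp [Matrix.mul_add, Matrix.add_mul]) (fun _ _ _ => by simp)
    (fun _ _ _ => by simp [Matrix.mul_add]) (fun _ _ _ => by simp)
  have h5 : u⁻¹.1ᵀ = -(u⁻¹.1 * α a) := by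
    rw [← mul_one (α a), ← transpose_one, ← u.inv_mul, transpose_mul, ← mul_assoc (α a), h3]
    simp
  have h6 : ∀ Y Z, b Y Z = -b Z Y := fun Y Z => by
    change trace _ = -trace _
    rw [← trace_transpose]
    simp only [transpose_mul, transpose_transpose, h5, Matrix.neg_mul, Matrix.mul_neg, trace_neg,
      Matrix.mul_assoc]
    rw [← Matrix.mul_assoc (α a), Y.2 a, Matrix.mul_assoc, h4, trace_mul_comm w]
    simp only [Matrix.mul_assoc]
  have h7 : ∀ Y, (∀ Z, b Y Z = 0) → Y = 0 := fun Y hY => by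
    by_contra h0
    obtain ⟨Z, hZ⟩ := exists_trace_ne (Y := w * Y.1ᵀ * u⁻¹.1) fun h8 => h0 (Subtype.ext (by
      have := congrArg (fun x => w⁻¹ * x * u.1) h8
      simp only [Matrix.mul_assoc, Units.inv_mul, Matrix.mul_one, Matrix.mul_zero, Matrix.zero_mul,
        nonsing_inv_mul_cancel_left w _ ((isUnit_iff_isUnit_det w).1 hw)] at this
      exact transpose_eq_zero.1 this))
    have h8 : ∀ g, w * Y.1ᵀ * u⁻¹.1 * α g = β g * (w * Y.1ᵀ * u⁻¹.1) := fun g => by
      obtain ⟨g, rfl⟩ := c.surjective g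
      rw [← Matrix.mul_assoc, ← Matrix.mul_assoc, h2, Matrix.mul_assoc w _ Y.1ᵀ, ← transpose_mul,
        ← Y.2, transpose_mul, ← Units.mul_inv_cancel_right (α (c g)) u, h1]
      simp [Matrix.mul_assoc]
    have h9 := hY ⟨_, avg_mem α β Z⟩
    change trace _ = 0 at h9
    rw [Matrix.mul_sum, trace_sum, Finset.sum_congr rfl fun g _ => show _ = (w * Y.1ᵀ * u⁻¹.1 * Z).trace by
      rw [← Matrix.mul_assoc, ← Matrix.mul_assoc, h8, trace_mul_cycle, ← Matrix.mul_assoc,
        ← Matrix.mul_assoc, ← map_mul, inv_mul_cancel, map_one, Matrix.one_mul]] at h9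
    exact hZ (by simpa using h9)
  let B := Module.finBasis ℂ (Hm α β)
  have h8 := (LinearMap.BilinForm.nondegenerate_iff_det_ne_zero B).1
    (show b.Nondegenerate from ⟨h7, fun Y hY => h7 Y fun Z => by rw [h6, hY, neg_zero]⟩)
  have h9 : (LinearMap.BilinForm.toMatrix B b)ᵀ = -LinearMap.BilinForm.toMatrix B b := by
    ext i j
    simpa using h6 _ _
  have h10 := congrArg det h9
  rw [det_transpose, det_neg, Fintype.card_fin] at h10
  by_contra h11
  rw [(Nat.not_even_iff_odd.1 h11).neg_one_pow] at h10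
  exact h8 (by linear_combination h10 / 2)

theorem exists_conj_diagonal {A : Matrix n n ℂ} {o : ℕ} (ho : o ≠ 0) (h : A ^ o = 1) :
    ∃ (P : (Matrix n n ℂ)ˣ) (d : n → ℂ), P⁻¹.1 * A * P.1 = diagonal d := by
  have h1 : End.IsSemisimple (Matrix.toLin' A) :=
    End.isSemisimple_of_squarefree_aeval_eq_zero (p := Polynomial.X ^ o - Polynomial.C 1)
      (Polynomial.separable_X_pow_sub_C 1 (by simpa) one_ne_zero).squarefree (by
        simp [← Matrix.toLin'_pow, h, End.one_eq_id])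
  have h2 : ⊤ ≤ Submodule.span ℂ {v | ∃ c : ℂ, A *ᵥ v = c • v} := by
    rw [← h1.iSup_eigenspace_eq_top]
    exact iSup_le fun c v hv => Submodule.subset_span ⟨c, End.mem_eigenspace_iff.1 hv⟩
  let b := Basis.ofSpan h2
  have := Module.Finite.finite_basis b
  have := Fintype.ofFinite ((linearIndepOn_empty ℂ id).extend
    (Set.empty_subset {v | ∃ c : ℂ, A *ᵥ v = c • v}))
  let e := Fintype.equivOfCardEq ((finrank_eq_card_basis b).symm.trans (finrank_fintype_fun_eq_card ℂ))
  choose d hd using fun i => Basis.ofSpan_subset h2 ⟨e.symm i, (b.reindex_apply e i).symm⟩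
  have h3 : IsUnit ((Pi.basisFun ℂ n).toMatrix (b.reindex e)) :=
    @isUnit_of_invertible _ _ _ ((Pi.basisFun ℂ n).invertibleToMatrix (b.reindex e))
  refine ⟨h3.unit, d, ?_⟩
  rw [mul_assoc, Units.inv_mul_eq_iff_eq_mul]
  ext i j
  simpa [mul_apply, Basis.toMatrix_apply, mulVec, dotProduct, diagonal_apply, mul_comm]
    using congrFun (hd j) i

end CfsgLib.FsTw
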