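import Cfsg.Agent.Lib.FsTw.Defs

/-!
The matrix model of the twisted indicator.
-/

set_option autoImplicit false
set_option linter.unusedSectionVars false

namespace CfsgLib.FsTw

open Cfsg CfsgLib.Char Matrix
open scoped ComplexOrder

variable {X : Type*} [Group X] [Finite X] {s : X →* ℤˣ}

theorem Sch.model [Fintype s.ker] {n : Type} [Fintype n] [DecidableEq n]
    {α : s.ker →* Matrix n n ℂ} (h : Sch α) {ψ : X → ℂ} (hψ : ∀ g : s.ker, (α g).trace = ψ g)
    {τ : X} (hτ : s τ = -1) :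
    (Hm (α.comp (MulAut.conjNormal τ).toMonoidHom) (dual α) = ⊥ ∧ eps s ψ = 0) ∨
    ∃ (u : Matrix n n ℂ) (c : ℂ), IsUnit u ∧ (∀ g, α (MulAut.conjNormal τ g) * u = u * (α g⁻¹)ᵀ) ∧
      α ⟨τ * τ, s_sq s τ⟩ * uᵀ = c • u ∧ (c = 1 ∨ c = -1) ∧ eps s ψ = c * Nat.card s.ker := by
  have h1 : eps s ψ = ∑ g, (α g * α (MulAut.conjNormal τ g) * α ⟨τ * τ, s_sq s τ⟩).trace := by
    rw [eps_eq_sum_ker hτ]
    exact Finset.sum_congr rfl fun g _ => by
      rw [← map_mul α, ← map_mul α, hψ]; simp [mul_assoc]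
  refine (eq_or_ne _ ⊥).imp (fun h0 => ⟨h0, ?_⟩) fun h0 => ?_
  · have h2 : ∀ i j k, ∑ g, α g i j * α (MulAut.conjNormal τ g) j k = 0 := fun i j k => by
      have := avg_mem (α.comp (MulAut.conjNormal τ).toMonoidHom) (dual α) (single k j 1)
      rw [h0, Submodule.mem_bot] at this
      have := congrFun (congrFun this j) i
      simp only [Matrix.sum_apply, dual_apply, inv_inv, Matrix.mul_assoc] at this
      simpa [mul_apply, single_apply, ite_and, mul_comm] using this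
    simp only [h1, trace, diag, mul_apply, Finset.sum_mul]
    rw [Finset.sum_comm]
    refine Finset.sum_eq_zero fun i _ => Finset.sum_comm.trans (Finset.sum_eq_zero fun k _ =>
      Finset.sum_comm.trans (Finset.sum_eq_zero fun j _ => ?_))
    rw [← Finset.sum_mul, h2, zero_mul]
  obtain ⟨u, hu, u0⟩ := (Submodule.ne_bot_iff _).1 h0
  have hc := h.comp (f := (MulAut.conjNormal τ).toMonoidHom) (MulEquiv.surjective _)
  have h2 := hc.isUnit hu u0
  have hu' : ∀ g, α (MulAut.conjNormal τ g) * u = u * (α g⁻¹)ᵀ := hu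
  obtain ⟨c, h3⟩ := hc.eq_smul (T := α ⟨τ * τ, s_sq s τ⟩ * uᵀ) h2 hu fun g => by
    have := congrArg transpose (hu' ((MulAut.conjNormal τ).symm g⁻¹))
    rw [transpose_mul, transpose_mul, transpose_transpose, MulEquiv.apply_symm_apply] at this
    rw [dual_apply, mul_assoc, this, ← mul_assoc, ← mul_assoc, MonoidHom.comp_apply, ← map_mul,
      ← map_mul]
    congr 2
    exact Subtype.ext (by simp [mul_assoc])
  have h4 : c * c = 1 := by
    have h5 := hu' ⟨τ * τ, s_sq s τ⟩⁻¹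
    rw [inv_inv, show MulAut.conjNormal τ (⟨τ * τ, s_sq s τ⟩ : s.ker)⁻¹ = ⟨τ * τ, s_sq s τ⟩⁻¹ from
      Subtype.ext (by simp [mul_assoc])] at h5
    have h6 := congrArg transpose h3
    rw [transpose_mul, transpose_transpose, ← h5, transpose_smul] at h6
    have h7 := congrArg (α ⟨τ * τ, s_sq s τ⟩ * ·) h6
    simp only [← mul_assoc, ← map_mul, mul_inv_cancel, map_one, one_mul, mul_smul_comm, h3,
      smul_smul] at h7
    exact smul_left_injective ℂ u0 (h7.symm.trans (one_smul _ _).symm)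
  refine ⟨u, c, h2, hu', h3, mul_self_eq_one_iff.1 h4, ?_⟩
  obtain ⟨u, rfl⟩ := h2
  have h5 : ∀ g, α (MulAut.conjNormal τ g) = u.1 * (α g⁻¹)ᵀ * u⁻¹.1 := fun g => by
    rw [← hu', Units.mul_inv_cancel_right]
  simp only [h1, h5, ← mul_assoc]
  rw [← trace_sum, ← Finset.sum_mul, ← Finset.sum_mul, h.swap, trace_mul_cycle, mul_smul_comm, h3]
  have := h.card_ne
  rw [Nat.card_eq_fintype_card]
  simp
  field_simp

theorem Irr.eps_tri {ψ : X → ℂ} (h : Irr s ψ) :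
    eps s ψ = 0 ∨ eps s ψ = Nat.card s.ker ∨ eps s ψ = -Nat.card s.ker := by
  by_cases h0 : ∀ x, s x = 1
  · exact Or.inl (eps_of_pos h0 ψ)
  obtain ⟨τ, hτ⟩ := not_forall.1 h0
  have := Fintype.ofFinite s.ker
  obtain ⟨m, α, h1, h2⟩ := exists_sch h
  rcases h1.model h2 (s_ne.1 hτ) with h3 | ⟨u, c, -, -, -, rfl | rfl, h3⟩
  exacts [Or.inl h3.2, by simp [h3], by simp [h3]]

theorem good_of_not_bad (h : ∀ ψ, ¬ Bad s ψ) : Good s := good_of_irr fun ψ hψ => by
  rcases hψ.eps_tri with h1 | h1 | h1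
  exacts [h1.ge, h1 ▸ Nat.cast_nonneg _, (h ψ ⟨hψ, h1⟩).elim]

theorem Bad.ne {ψ : X → ℂ} (h : Bad s ψ) : eps s ψ ≠ 0 := by
  rw [h.2, neg_ne_zero]; exact natCard_ne_zero

theorem Bad.inv {ψ : X → ℂ} (h : Bad s ψ) {τ g : X} (hτ : s τ = -1) (hg : s g = 1) :
    ψ (τ * g⁻¹ * τ⁻¹) = ψ g := by
  have := Fintype.ofFinite s.ker
  obtain ⟨m, α, h1, h2⟩ := exists_sch h.1
  obtain ⟨_, c, ⟨u, rfl⟩, h3, -⟩ := (h1.model h2 hτ).resolve_left fun h3 => h.ne h3.2
  have h4 := congrArg (fun x => trace (x * u⁻¹.1)) (h3 ⟨g, hg⟩⁻¹)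
  simp only [Units.mul_inv_cancel_right, h2, trace_mul_cycle u.1, Units.inv_mul, one_mul,
    trace_transpose, inv_inv] at h4
  exact h4

theorem Bad.exists_neg {ψ : X → ℂ} (h : Bad s ψ) : ∃ τ, s τ = -1 := by
  by_contra! h0
  exact h.ne (eps_of_pos (fun x => by_contra fun hx => h0 x (s_ne.1 hx)) ψ)

theorem Bad.even {ψ : X → ℂ} (h : Bad s ψ) {Y : Type*} [Group Y] [Finite Y] {s' : Y →* ℤˣ}
    [Fintype s'.ker] (f : Y →* X) (hf : ∀ y, s (f y) = s' y) (hY : Good s') {τ : Y}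
    (hτ : s' τ = -1) {φ : Y → ℂ} (hφ : Irr s' φ) (h' : ∀ g, s' g = 1 → φ (τ * g⁻¹ * τ⁻¹) = φ g) :
    ∃ k : ℕ, classInner (fun g : s'.ker => ψ (f g)) (fun g => φ g) = 2 * k := by
  have := Fintype.ofFinite s.ker
  obtain ⟨m, α, h1, h2⟩ := exists_sch h.1
  obtain ⟨u, c, a1, a2, a3, -, a4⟩ := (h1.model h2 ((hf τ).trans hτ)).resolve_left fun h3 => h.ne h3.2
  obtain rfl : c = -1 := mul_right_cancel₀ natCard_ne_zero (by rw [← a4, h.2, neg_one_mul])
  obtain ⟨k, β, h3, h4⟩ := exists_sch hφ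
  obtain ⟨w, d, b1, b2, b3, b4, b5⟩ := (h3.model h4 hτ).resolve_left fun h5 => by
    obtain ⟨T, t1, t2⟩ := (h3.comp (f := (MulAut.conjNormal τ).toMonoidHom)
      (MulEquiv.surjective _)).exists_unit (α' := dual β) fun g => by
        rw [dual_apply, trace_transpose, h4, MonoidHom.comp_apply, h4]
        exact (h' _ (inv_mem g.2)).symm.trans (by simp)
    have := h3.1
    exact t2.ne_zero (by rwa [h5.1] at t1)
  obtain rfl : d = 1 := b4.resolve_right fun e => by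
    have := hY φ hφ.ch
    rw [b5, e, neg_one_mul, neg_nonneg] at this
    exact this.not_gt (Nat.cast_pos.2 Nat.card_pos)
  let f₀ : s'.ker →* s.ker := (f.comp s'.ker.subtype).codRestrict s.ker fun y => (hf y).trans y.2
  obtain ⟨r, hr⟩ := even_finrank_Hm (α := α.comp f₀) (β := β) (MulAut.conjNormal τ).toEquiv a1 b1
    (fun g => by
      rw [MonoidHom.comp_apply, MonoidHom.comp_apply, map_inv, ← a2]
      congr 2
      exact Subtype.ext (show f (τ * g * τ⁻¹) = f τ * f g * (f τ)⁻¹ by simp)) b2 (a := ⟨τ * τ, s_sq s' τ⟩)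
    (by rw [← neg_one_smul ℂ u, ← a3]; exact congrArg (α · * _) (Subtype.ext (map_mul f τ τ)))
    (by simpa using b3)
  have h5 := finrank_Hm (α.comp f₀) β
  simp only [MonoidHom.comp_apply, h2, h4, hr] at h5
  exact ⟨r, h5.trans (by push_cast; ring)⟩

end CfsgLib.FsTw
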