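import Cfsg.Agent.Lib.OmOre.C2e
import Cfsg.Agent.Lib.Inv2.Wall

/-!
Reality in orthogonal groups of characteristic two.
-/

set_option autoImplicit false

namespace CfsgLib.FsTw

open Module QuadraticMap CfsgLib.Orth

namespace Ro

open Submodule Polynomial CfsgLib.SpOre CfsgLib.OmOre CfsgLib.Inv2

variable {F V : Type*} [Field F] [CharP F 2] [AddCommGroup V] [Module F V]
  {Q : QuadraticForm F V} {g s t : OG Q} {M M₁ : Submodule F V} {v w : V}

omit [CharP F 2] in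
theorem g_nn (a : ℕ) (x : V) : g.1 ((nn g ^ a) x) = (nn g ^ a) (g.1 x) := by
  induction a generalizing x with
  | zero => simp
  | succ a ih => rw [pow_succ, End.mul_apply, End.mul_apply, ih, nn_apply, nn_apply, map_add]

theorem fix_of_nn {x : V} (h : nn g x = 0) : g.1 x = x := by
  rwa [nn_apply, ← sub_eq_add' F, sub_eq_zero] at h

omit [CharP F 2] in
theorem polar_nn_pow (a : ℕ) (hfix : ∀ x, nn g x = 0 → g.1 x = x) (x : V) {y : V}
    (h : (nn g ^ (a + 1)) y = 0) : polar Q ((nn g ^ a) x) y = polar Q x ((nn g ^ a) y) := by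
  induction a generalizing x y with
  | zero => simp
  | succ a ih =>
    have e : ∀ u, polar Q (nn g u) y = polar Q (g.1 u) (nn g y) := fun u => by
      rw [nn_apply, nn_apply, polar_add_left, polar_add_right, OG.map_polar, add_comm]
    rw [pow_succ' _ a, End.mul_apply, e, g_nn, ih _ (by rw [← End.mul_apply, ← pow_succ, h]),
      ← End.mul_apply, ← pow_succ, ← pow_succ']
    rw [pow_succ', End.mul_apply] at h
    conv_lhs => rw [← hfix _ h]
    rw [OG.map_polar]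

omit [CharP F 2] in
theorem nn_ge {a b : ℕ} {x : V} (h : (nn g ^ a) x = 0) (hab : a ≤ b) : (nn g ^ b) x = 0 := by
  obtain ⟨c, rfl⟩ := Nat.exists_eq_add_of_le' hab
  rw [pow_add, End.mul_apply, h, map_zero]

theorem polar_nn2 {k a b : ℕ} (x : V) {y : V} (h : (nn g ^ (k + 1)) y = 0) (hab : k ≤ a + b) :
    polar Q ((nn g ^ a) x) ((nn g ^ b) y) = polar Q x ((nn g ^ (a + b)) y) := by
  rw [polar_nn_pow a (fun _ => fix_of_nn) x (by
    rw [← End.mul_apply, ← pow_add]; exact nn_ge h (by omega)), ← End.mul_apply, ← pow_add]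

theorem Q_nn_pow (hQ : (polarBilin Q).Nondegenerate) (i : ℕ) (x : V) :
    Q ((nn g ^ (i + 1)) x) = cv g x (X ^ i) := by
  induction i generalizing x with
  | zero => rw [zero_add, pow_one, Q_nn, pow_zero]
  | succ i ih => rw [pow_succ, End.mul_apply, ih, cv_nn hQ, ← pow_succ]

theorem Q_nn_top {k i : ℕ} {x : V} (h : (nn g ^ (k + 1)) x = 0) (hi : k ≤ 2 * i + 1) :
    Q ((nn g ^ (i + 1)) x) = polar Q x ((nn g ^ (2 * i + 1)) x) := by
  rw [show 2 * i + 1 = (i + 1) + i by ring, ← polar_nn2 x h (by omega), pow_succ', End.mul_apply,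
    nn_apply, Q_add, OG.map_Q, CharTwo.add_self_eq_zero, zero_add, polar_add_left,
    polar_self_charTwo, add_zero]

theorem Q_nn_zero {k i : ℕ} {x : V} (h : (nn g ^ (k + 1)) x = 0)
    (hβ : polar Q x ((nn g ^ k) x) = 0) (hi : k < 2 * i) : Q ((nn g ^ i) x) = 0 := by
  obtain ⟨i, rfl⟩ : ∃ j, i = j + 1 := ⟨i - 1, by omega⟩
  rw [Q_nn_top h (by omega)]
  by_cases e : 2 * i + 1 = k
  · rw [e, hβ]
  · rw [nn_ge h (by omega), polar_zero_right]

omit [CharP F 2] in
theorem nn_mem (hM : ∀ x ∈ M, g.1 x ∈ M) (i : ℕ) {x : V} (hx : x ∈ M) : (nn g ^ i) x ∈ M := by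
  induction i with
  | zero => simpa
  | succ i ih => rw [pow_succ', End.mul_apply, nn_apply]; exact add_mem (hM _ ih) ih

/-- adjusting the Gram data of `v` to those of `w` -/
theorem tune (hM : ∀ x ∈ M₁, g.1 x ∈ M₁) {k : ℕ} (hk : ∀ x ∈ M₁, (nn g ^ (k + 1)) x = 0)
    (hβ : ∀ x ∈ M₁, polar Q x ((nn g ^ k) x) = 0) (hv : v ∈ M₁) (hw : w ∈ M₁)
    (hvw : polar Q v ((nn g ^ k) w) ≠ 0)
    (h : ∀ i, 2 * i = k → Q ((nn g ^ i) v) = Q ((nn g ^ i) w)) :
    ∃ x ∈ M₁, polar Q x ((nn g ^ k) w) ≠ 0 ∧ ∀ i, Q ((nn g ^ i) x) = Q ((nn g ^ i) w) := by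
  have step : ∀ l, ∃ x ∈ M₁, polar Q x ((nn g ^ k) w) ≠ 0 ∧
      ∀ i, k ≤ i + l ∨ k ≤ 2 * i → Q ((nn g ^ i) x) = Q ((nn g ^ i) w) := by
    intro l
    induction l with
    | zero =>
      refine ⟨v, hv, hvw, fun i hi => ?_⟩
      by_cases e : 2 * i = k
      · exact h i e
      · rw [Q_nn_zero (hk v hv) (hβ v hv) (by omega), Q_nn_zero (hk w hw) (hβ w hw) (by omega)]
    | succ l ih =>
      obtain ⟨x, x1, x2, x3⟩ := ih
      by_cases hc : ∃ i₀, i₀ + l + 1 = k ∧ 2 * i₀ < k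
      swap
      · exact ⟨x, x1, x2, fun i hi => x3 i (by
          by_contra h'
          exact hc ⟨i, by omega, by omega⟩)⟩
      obtain ⟨j, j1, j2⟩ := hc
      obtain ⟨m, hm⟩ : ∃ m, 2 * j + (m + 1) = k := ⟨k - 2 * j - 1, by omega⟩
      have e : ∀ (γ : F) i, j ≤ i → Q ((nn g ^ i) (x + γ • (nn g ^ (m + 1)) w)) =
          Q ((nn g ^ i) x) + γ * polar Q x ((nn g ^ (i + (i + (m + 1)))) w) := fun γ i hi => by
        rw [map_add, map_smul, ← End.mul_apply, ← pow_add, Q_add, Q_smul,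
          Q_nn_zero (hk w hw) (hβ w hw) (by omega), polar_smul_right,
          polar_nn2 x (hk w hw) (by omega), mul_zero, add_zero, smul_eq_mul]
      refine ⟨x + ((Q ((nn g ^ j) w) - Q ((nn g ^ j) x)) / polar Q x ((nn g ^ k) w)) •
        (nn g ^ (m + 1)) w, add_mem x1 (smul_mem _ _ (nn_mem hM _ hw)), ?_, fun i hi => ?_⟩
      · rwa [polar_add_left, polar_smul_left, polar_nn2 w (hk w hw) (by omega),
          nn_ge (hk w hw) (show k + 1 ≤ m + 1 + k by omega), polar_zero_right, smul_zero, add_zero]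
      · by_cases hij : i = j
        · subst hij
          rw [e _ _ le_rfl, show i + (i + (m + 1)) = k by omega, div_mul_cancel₀ _ x2,
            add_sub_cancel]
        · rw [e _ _ (by omega), nn_ge (hk w hw) (show k + 1 ≤ i + (i + (m + 1)) by omega),
            polar_zero_right, mul_zero, add_zero, x3 i (by omega)]
  obtain ⟨x, x1, x2, x3⟩ := step k
  exact ⟨x, x1, x2, fun i => x3 i (Or.inl (by omega))⟩

theorem exists_eq_val (q : QuadraticForm F V) (hv : v ∈ M) (hw : w ∈ M) (h : polar q v w ≠ 0) :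
    ∃ x ∈ M, ∃ y ∈ M, polar q x y ≠ 0 ∧ q x = q y := by
  have k : ∀ v ∈ M, ∀ w ∈ M, polar q v w ≠ 0 → q w ≠ 0 →
      ∃ x ∈ M, ∃ y ∈ M, polar q x y ≠ 0 ∧ q x = q y := fun v hv w hw h h' =>
    ⟨v, hv, v + (-polar q v w / q w) • w, add_mem hv (smul_mem _ _ hw), by
      rw [polar_add_right, polar_self_charTwo, polar_smul_right, zero_add, smul_eq_mul]
      exact mul_ne_zero (div_ne_zero (neg_ne_zero.2 h) h') h, by
      rw [Q_add, Q_smul, polar_smul_right, smul_eq_mul]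
      field_simp
      ring⟩
  by_cases a : q w = 0
  · by_cases b : q v = 0
    · exact ⟨v, hv, w, hw, h, b.trans a.symm⟩
    · exact k w hw v hv (by rwa [polar_comm]) b
  · exact k v hv w hw h a

omit [CharP F 2] in
theorem socle {A : End F V} {k : ℕ} (h0 : (A ^ (k + 1)) v = 0) (h1 : (A ^ k) v ≠ 0) {y : V}
    (hy : y ∈ cyc A v) (hA : A y = 0) : ∃ c : F, y = c • (A ^ k) v := by
  have hc : ∀ (i : ℕ) (p : F[X]) x, (A ^ i) (aeval A p x) = aeval A p ((A ^ i) x) :=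
    fun i p x => aeval_comm (fun y => by
      rw [← End.mul_apply, ← End.mul_apply, ← pow_succ, ← pow_succ']) p x
  have step : ∀ i ≤ k, ∃ p : F[X], y = aeval A p ((A ^ i) v) := by
    intro i hi
    induction i with
    | zero => obtain ⟨p, rfl⟩ := mem_cyc.1 hy; exact ⟨p, by simp⟩
    | succ i ih =>
      obtain ⟨p, hp⟩ := ih (by omega)
      obtain ⟨d, rfl⟩ : ∃ d, k = d + 1 + i := ⟨k - 1 - i, by omega⟩
      rw [aeval_eq_divX, ← End.mul_apply A, ← pow_succ'] at hp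
      have := congrArg (A ^ (d + 1)) hp
      rw [pow_succ A d, End.mul_apply, hA, map_zero, ← pow_succ, map_add, map_smul, hc,
        ← End.mul_apply, ← End.mul_apply (A ^ _), ← pow_add, ← pow_add, ← add_assoc, h0, map_zero,
        add_zero, eq_comm, smul_eq_zero] at this
      exact ⟨p.divX, by rw [hp, this.resolve_right h1, zero_smul, zero_add]⟩
  obtain ⟨p, hp⟩ := step k le_rfl
  exact ⟨p.coeff 0, by rw [hp, aeval_eq_divX, ← End.mul_apply A, ← pow_succ', h0, map_zero, add_zero]⟩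

variable [FiniteDimensional F V] (hQ : (polarBilin Q).Nondegenerate)

include hQ

theorem swap_fac (hM : Inv (polarBilin Q) g.1 M) (h : Gen g M v w) (hq : Q v = Q w)
    (hc : ∀ i : ℕ, cv g v (X ^ i) = cv g w (X ^ i)) :
    ∃ s t, Fac g M s t ∧ t.1 v = w ∧ t.1 w = v := by
  have hc' : ∀ p, cv g v p = cv g w p := fun p => by
    induction p using Polynomial.induction_on' with
    | add p q hp hq => rw [cv_addp, cv_addp, hp, hq]
    | monomial n a =>
      have := hc n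
      simp only [cv] at this
      simp only [← smul_X_eq_monomial, cv, map_smul, LinearMap.smul_apply, polar_smul_left, this]
  have k : ∀ k : ℤ, polar Q ((g ^ k).1 v) v = polar Q ((g ^ k).1 w) w := fun k => by
    have := zpow_rec (V := F[X] → F) (C := ⊥) (A := LinearMap.funLeft F F (· * X))
      (u := fun k p => polar Q (aeval (tau g.1) p ((g ^ k).1 v)) v -
        polar Q (aeval (tau g.1) p ((g ^ k).1 w)) w) (fun x hx => by rw [(mem_bot F).1 hx]; simp)
      (fun k => funext fun p => by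
        simp only [LinearMap.funLeft_apply, Pi.add_apply, aeval_mul_apply, aeval_X, tau_zpow, map_add,
          polar_add_left]
        ring)
      ((mem_bot F).2 (funext fun p => by simp [palt hQ]))
      ((mem_bot F).2 (funext fun p => by simpa [sub_eq_zero, cv] using hc' p)) k
    simpa [sub_eq_zero] using congrFun ((mem_bot F).1 this) 1
  exact exists_fac hQ hM h h.symm hq.symm hq (fun i => (k i).symm) k
    (fun i => (polar_zpow' _ _ _).symm) fun r r1 r2 _ => ⟨r2, r1⟩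

theorem two_rank_le (hM : Nd (polarBilin Q) M) (ht : t * t = 1) (h : Su M t) :
    2 * finrank F (movSpace t) ≤ finrank F M :=
  Iso.two_mul_le (sy hQ) hM (h.mov_le hQ) fun _ hx _ hy => polar_mov_fix' hQ hx (fix_of_mov ht hy)

omit hQ [CharP F 2] in
theorem le_fix_add (t : OG Q) (M : Submodule F V) :
    finrank F M ≤ finrank F ↥(fixSpace t ⊓ M) + finrank F (movSpace t) := by
  have := inf_ge (fixSpace t) M
  have := finrank_fix_add_mov t
  omega

/-- the summands with two generators -/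
theorem swap_rank (hM : Inv (polarBilin Q) g.1 M₁) {k : ℕ}
    (hk : ∀ x ∈ M₁, (nn g ^ (k + 1)) x = 0) (hβ : ∀ x ∈ M₁, polar Q x ((nn g ^ k) x) = 0)
    (hw : w ∈ M₁) (hw' : (nn g ^ k) w ≠ 0) : ∃ M ≤ M₁, M ≠ ⊥ ∧ Inv (polarBilin Q) g.1 M ∧
      ∃ s t, Fac g M s t ∧ 2 * finrank F (movSpace t) = finrank F M := by
  obtain ⟨v, hv, hv'⟩ : ∃ v ∈ M₁, polar Q v ((nn g ^ k) w) ≠ 0 := by
    by_contra h
    push Not at h
    exact hw' (hM.nd.eq_zero (nn_mem hM.inv k hw) h)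
  obtain ⟨v, hv, w, hw, hv', h⟩ : ∃ v ∈ M₁, ∃ w ∈ M₁, polar Q v ((nn g ^ k) w) ≠ 0 ∧
      ∀ i, 2 * i = k → Q ((nn g ^ i) v) = Q ((nn g ^ i) w) := by
    obtain ⟨j, rfl | rfl⟩ := Nat.even_or_odd' k
    · have e : ∀ x, ∀ y ∈ M₁, polar (Q.comp (nn g ^ j)) x y = polar Q x ((nn g ^ (2 * j)) y) :=
        fun x y hy => by
          rw [two_mul, ← polar_nn2 x (hk y hy) (by omega)]
          simp [polar]
      obtain ⟨x, hx, y, hy, h1, h2⟩ := exists_eq_val (Q.comp (nn g ^ j)) hv hw (by rwa [e v w hw])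
      refine ⟨x, hx, y, hy, by rwa [← e x y hy], fun i hi => ?_⟩
      rw [show i = j by omega]
      exact h2
    · exact ⟨v, hv, w, hw, hv', fun i hi => by omega⟩
  obtain ⟨v, hv, hvw, h⟩ := tune hM.inv hk hβ hv hw hv' h
  obtain ⟨M, m1, m2, m3, -, m5⟩ := pair_inv hQ hM hk hβ hv hw hvw
  obtain ⟨s, t, h1, h2, h3⟩ := swap_fac hQ m3 m5 (by simpa using h 0)
    fun i => by rw [← Q_nn_pow hQ, ← Q_nn_pow hQ, h]
  refine ⟨M, m1, m2, m3, s, t, h1, le_antisymm (two_rank_le hQ m3.nd h1.tt h1.tM) ?_⟩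
  have hwv : polar Q w ((nn g ^ k) v) ≠ 0 := fun h' => hvw (by
    simpa [polar_add_left, polar_add_right, hβ v hv, hβ w hw, h'] using hβ (v + w) (add_mem hv hw))
  have ci : ∀ v, ∀ x ∈ cyc (nn g) v, g.1 x ∈ cyc (nn g) v := fun v x hx => by
    simpa [nn_apply] using sub_mem (cyc_inv hx) hx
  have cM : ∀ v ∈ M, cyc (nn g) v ≤ M := fun v hv =>
    cyc_le (fun x hx => add_mem (m3.inv x hx) hx) hv
  have tc : ∀ v ∈ M, ∀ x ∈ cyc (nn g) v, t.1 x ∈ cyc (nn g) (t.1 v) := fun v hv x hx =>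
    (cyc_le (U := M ⊓ comap t.1.toLinearMap (cyc (nn g) (t.1 v))) (fun y hy =>
      ⟨add_mem (m3.inv y hy.1) hy.1, by
        change t.1 (g.1 y + y) ∈ cyc (nn g) (t.1 v)
        rw [map_add, h1.t_g hQ hy.1]
        exact add_mem (symm_mem (ci _) hy.2) hy.2⟩) ⟨hv, self_mem_cyc _ _⟩ hx).2
  have dj : ∀ x ∈ cyc (nn g) v, x ∈ cyc (nn g) w → x = 0 := fun x hx hx' => by
    have : ∀ d i, i + d = k + 1 → (nn g ^ i) x = 0 := by
      intro d
      induction d with
      | zero => exact fun i hi => nn_ge (hk x (m1 (cM v m5.1 hx))) (by omega)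
      | succ d ih =>
        intro i hi
        have e := ih (i + 1) (by omega)
        rw [pow_succ', End.mul_apply] at e
        obtain ⟨c, hc⟩ := socle (hk v hv) (fun h => hwv (by rw [h, polar_zero_right]))
          (nn_mem (ci v) i hx) e
        obtain ⟨c', hc'⟩ := socle (hk w hw) (fun h => hvw (by rw [h, polar_zero_right]))
          (nn_mem (ci w) i hx') e
        exact m5.eq_zero m3.nd (nn_mem m3.inv i (cM v m5.1 hx)) (fix_of_nn e)
          (by rw [hc, polar_smul_left, polar_comm, hβ v hv, smul_zero])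
          (by rw [hc', polar_smul_left, polar_comm, hβ w hw, smul_zero])
    simpa using this (k + 1) 0 (by omega)
  have le : fixSpace t ⊓ M ≤ movSpace t := fun x hx => by
    obtain ⟨a, ha, b, hb, rfl⟩ := Submodule.mem_sup.1 (m5.2.2 (cyc (nn g) v ⊔ cyc (nn g) w)
      (map_sup_mem (A := g.1.toLinearMap) (fun y hy => mem_sup_left (ci v y hy))
        fun y hy => mem_sup_right (ci w y hy)) (mem_sup_left (self_mem_cyc _ _))
        (mem_sup_right (self_mem_cyc _ _)) hx.2)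
    have e := mem_fixSpace.1 hx.1
    rw [map_add] at e
    have e' : a - t.1 b = t.1 a - b := by rw [sub_eq_sub_iff_add_eq_add, e]
    have := dj _ (sub_mem ha (h3 ▸ tc w m5.2.1 b hb)) (e' ▸ sub_mem (h2 ▸ tc v m5.1 a ha) hb)
    rw [e', sub_eq_zero] at this
    exact mem_movSpace.2 ⟨a, by rw [this, sub_eq_add' F, add_comm]⟩
  have := le_fix_add t M
  have := Submodule.finrank_mono le
  omega

variable [Finite F]

theorem piece {M₀ : Submodule F V} (hM : Inv (polarBilin Q) g.1 M₀) (hne : M₀ ≠ ⊥) :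
    ∃ M ≤ M₀, M ≠ ⊥ ∧ Inv (polarBilin Q) g.1 M ∧ ∃ s t, Fac g M s t ∧
      (2 * finrank F (movSpace t) = finrank F M ∨
        finrank F (movSpace s) = finrank F (movSpace t) + 1) := by
  classical
  obtain ⟨M₁, hle, hM₁, ν, j, hν, h0, x, hx, hx'⟩ := exists_primary (isom_of g) hM hne
  have hx0 : x ≠ 0 := by rintro rfl; simp at hx'
  by_cases hX : ν ∣ X
  · have hex : ∃ k, ∀ x ∈ M₁, (nn g ^ k) x = 0 := ⟨2 * (j + 1), fun x hx => by
      rw [nn_pow, aeval_of_dvd (h0 x hx) (pow_dvd_pow_of_dvd hX _), map_zero]⟩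
    obtain ⟨k, hk⟩ : ∃ k, Nat.find hex = k + 1 := Nat.exists_eq_succ_of_ne_zero fun h =>
      hx0 (by simpa [h] using Nat.find_spec hex x hx)
    have k1 := hk ▸ Nat.find_spec hex
    have k2 := Nat.find_min hex (show k < Nat.find hex by omega)
    push Not at k2
    obtain ⟨w, hw, hw'⟩ := k2
    by_cases hβ : ∀ x ∈ M₁, polar Q x ((nn g ^ k) x) = 0
    · obtain ⟨M, m1, m2, m3, s, t, h1, h2⟩ := swap_rank hQ hM₁ k1 hβ hw hw'
      exact ⟨M, m1.trans hle, m2, m3, s, t, h1, Or.inl h2⟩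
    push Not at hβ
    obtain ⟨v, hv, hv'⟩ := hβ
    obtain ⟨i, rfl | rfl⟩ := Nat.even_or_odd' k
    · exact absurd (by rw [two_mul, ← polar_nn2 v (k1 v hv) (by omega), polar_self_charTwo]) hv'
    have e := k1 v hv
    rw [show 2 * i + 1 + 1 = 2 * (i + 1) by ring, nn_pow, LinearEquiv.map_eq_zero_iff] at e
    obtain ⟨M, m1, m2, m3, -, -, s, t, h1, h2, -⟩ := v_piece hQ hM₁ hv e (by
      rwa [← Q_nn_pow hQ, Q_nn_top (k1 v hv) le_rfl])
    exact ⟨M, m1.trans hle, m2, m3, s, t, h1, Or.inr (by omega)⟩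
  · obtain ⟨d, -, s, t, h1, -⟩ := ff_any hQ _ M₁ rfl hM₁
    refine ⟨M₁, hle, (Submodule.ne_bot_iff _).2 ⟨x, hx, hx0⟩, hM₁, s, t, h1, Or.inl ?_⟩
    have a1 := two_rank_le hQ hM₁.nd h1.ss h1.sM
    have a2 := two_rank_le hQ hM₁.nd h1.tt h1.tM
    have a3 := le_fix_add s M₁
    have a4 := le_fix_add t M₁
    have a5 := finrank_sup_add_finrank_inf_eq (fixSpace s ⊓ M₁) (fixSpace t ⊓ M₁)
    have a6 := Submodule.finrank_mono (sup_le inf_le_right inf_le_right :
      (fixSpace s ⊓ M₁) ⊔ (fixSpace t ⊓ M₁) ≤ M₁)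
    rw [show (fixSpace s ⊓ M₁) ⊓ (fixSpace t ⊓ M₁) = ⊥ from eq_bot_iff.2 fun y hy => ?_,
      finrank_bot] at a5
    · omega
    have y2 : g.1 y = y := by rw [h1.eq y hy.1.2, mem_fixSpace.1 hy.2.1, mem_fixSpace.1 hy.1.1]
    obtain ⟨a, b, hab⟩ := (hν.coprime_iff_not_dvd.2 hX).pow_left (m := j + 1)
    have := congrArg (aeval (tau g.1) · y) hab
    simp only [map_add, LinearMap.add_apply, aeval_mul_apply, h0 y hy.1.2, aeval_X, map_one,
      End.one_apply, tau_apply, y2, (LinearEquiv.symm_apply_eq _).2 y2.symm, add_self' F,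
      map_zero] at this
    exact this.symm

omit [Finite F] in
theorem Fac.sup {N : Submodule F V} {s' t' : OG Q} (hM : Nd (polarBilin Q) M)
    (hN : Nd (polarBilin Q) N) (hMN : N ≤ LinearMap.BilinForm.orthogonal (polarBilin Q) M)
    (h1 : Fac g M s t) (h1' : Fac g N s' t') : Fac g (M ⊔ N) (s * s') (t * t') := by
  have hNM := (sm hQ).orth_symm hMN
  have c : ∀ a b : OG Q, Su M a → Su N b → a * a = 1 → b * b = 1 → a * b * (a * b) = 1 := by
    intro a b ha hb ha' hb'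
    have : a * b = b * a := Subtype.ext
      (supp_commute (sy hQ) hM hMN ⟨isom_of a, ha⟩ ⟨isom_of b, hb⟩)
    rw [mul_assoc, ← mul_assoc b, ← this, mul_assoc, hb', mul_one, ha']
  refine ⟨c _ _ h1.sM h1'.sM h1.ss h1'.ss, c _ _ h1.tM h1'.tM h1.tt h1'.tt,
    (Su.mul hQ hM hN hMN h1.sM h1'.sM).1, (Su.mul hQ hM hN hMN h1.tM h1'.tM).1, fun x hx => ?_⟩
  obtain ⟨a, ha, b, hb, rfl⟩ := Submodule.mem_sup.1 hx
  simp only [OG.mul_apply, map_add]
  rw [h1'.tM a (hNM ha), h1'.sM _ (hNM (h1.tM.mem hQ ha)), h1.eq a ha,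
    h1.tM _ (hMN (h1'.tM.mem hQ hb)), h1.sM _ (hMN (h1'.sM.mem hQ (h1'.tM.mem hQ hb))), h1'.eq b hb]

omit [Finite F] in
theorem Fac.comm (hM : Inv (polarBilin Q) g.1 M) (h : Fac g M s t) : s * t * g = g * (s * t) :=
  OG.ext fun x => by
    obtain ⟨a, ha, b, hb, rfl⟩ := (sm hQ).decomp hM.nd x
    have hb' : g.1 b ∈ LinearMap.BilinForm.orthogonal (polarBilin Q) M := fun y hy => by
      have := hb _ (symm_mem hM.inv hy)
      rw [← adj (isom_of g)]
      exact this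
    simp only [OG.mul_apply, map_add]
    rw [← h.eq a ha, ← h.eq _ (hM.inv a ha), h.tM _ hb', h.sM _ hb', h.tM _ hb, h.sM _ hb]

theorem half (H : ∀ (M : Submodule F V) (s t : OG Q), Inv (polarBilin Q) g.1 M → Fac g M s t →
    finrank F (movSpace s) ≠ finrank F (movSpace t) + 1) (n : ℕ) :
    ∀ M₀ : Submodule F V, finrank F M₀ = n → Inv (polarBilin Q) g.1 M₀ →
      ∃ s t, Fac g M₀ s t ∧ 2 * finrank F (movSpace t) = finrank F M₀ := by
  induction n using Nat.strong_induction_on with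
  | _ n ih =>
    intro M₀ hn h₀
    by_cases hne : M₀ = ⊥
    · subst hne
      exact ⟨1, 1, ⟨mul_one 1, mul_one 1, fun _ _ => rfl, fun _ _ => rfl, by simp⟩, by
        rw [movSpace_one]; simp⟩
    obtain ⟨M, m1, m2, m3, s, t, h1, h2⟩ := piece hQ h₀ hne
    obtain ⟨M', b1, b2, rfl, b4⟩ := h₀.split (sy hQ) (isom_of g) m3 m1
    have := Submodule.one_le_finrank_iff.2 m2
    obtain ⟨s', t', h1', h2'⟩ := ih (finrank F M') (by omega) M' rfl b1
    have := h2.resolve_right (H M s t m3 h1)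
    exact ⟨_, _, Fac.sup hQ m3.nd b1.nd b2 h1 h1', by
      rw [(Su.mul hQ m3.nd b1.nd b2 h1.tM h1'.tM).2.1]; omega⟩

omit hQ [Finite F] [FiniteDimensional F V] [CharP F 2] in
theorem Fac.real (h : Fac g ⊤ s t) : t * g * t⁻¹ = g⁻¹ := by
  rw [show g = s * t from OG.ext fun x => h.eq x trivial, mul_inv_rev,
    inv_eq_of_mul_eq_one_right h.ss, inv_eq_of_mul_eq_one_right h.tt, mul_assoc, mul_assoc, h.tt,
    mul_one]

end Ro

variable {F V : Type*} [Field F] [Finite F] [CharP F 2] [AddCommGroup V] [Module F V]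
  [FiniteDimensional F V] {Q : QuadraticForm F V}

theorem real_og (hQ : (polarBilin Q).Nondegenerate) (g : OG Q) : ∃ t : OG Q, t * g * t⁻¹ = g⁻¹ := by
  obtain ⟨d, -, s, t, h1, -⟩ := OmOre.ff_any hQ (g := g) _ ⊤ rfl
    ⟨OmOre.nd_top hQ, fun _ _ => trivial⟩
  exact ⟨t, Ro.Fac.real h1⟩

theorem real_omega (hQ : (polarBilin Q).Nondegenerate) (h24 : Nat.card F ≠ 2 ∨ finrank F V ≠ 4)
    (h4 : 4 ∣ finrank F V) (g : OG Q) : ∃ t : OG Q, dickson hQ h24 t = 1 ∧ t * g * t⁻¹ = g⁻¹ := by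
  by_cases H : ∃ c : OG Q, c * g = g * c ∧ dickson hQ h24 c ≠ 1
  · obtain ⟨c, c1, c2⟩ := H
    obtain ⟨t, ht⟩ := real_og hQ g
    by_cases h : dickson hQ h24 t = 1
    · exact ⟨t, h, ht⟩
    · refine ⟨t * c, ?_, by rw [mul_assoc t, c1, ← ht]; group⟩
      rw [map_mul, (Int.units_eq_one_or _).resolve_left h, (Int.units_eq_one_or _).resolve_left c2]
      simp
  push Not at H
  obtain ⟨s, t, h1, h2⟩ := Ro.half hQ (g := g) (fun M s t hM h e => by
    have := H _ (Ro.Fac.comm hQ hM h)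
    rw [map_mul, dickson_apply, dickson_apply, e, ← pow_add,
      neg_one_pow_eq_one_iff_even (by decide), Nat.even_iff] at this
    omega) _ ⊤ rfl ⟨OmOre.nd_top hQ, fun _ _ => trivial⟩
  refine ⟨t, ?_, Ro.Fac.real h1⟩
  rw [finrank_top] at h2
  rw [dickson_eq_one_iff, Nat.even_iff]
  omega

end CfsgLib.FsTw
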