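import Cfsg.Agent.Lib.FsTw.Geo

/-!
Adjoining an isometry of odd order to the ring of operators.
-/

set_option autoImplicit false
set_option linter.unusedSectionVars false

namespace CfsgLib.FsTw

open QuadraticMap CfsgLib.Orth

universe u

variable {V R : Type u} [AddCommGroup V] [Module (ZMod 2) V] [CommRing R] [Algebra (ZMod 2) R]
  [Module R V] [IsScalarTower (ZMod 2) R V] [Finite V] {Q : QuadraticForm (ZMod 2) V}
  {σ : R →+* R}

open scoped IsMulCommutative in
theorem exists_adjoin (f : Bool → Module.End (ZMod 2) V) (h1 : ∀ i j, f i * f j = f j * f i)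
    (h2 : ∀ i (r : R) x, f i (r • x) = r • f i x) :
    ∃ (R' : Type u) (_ : CommRing R') (_ : Algebra (ZMod 2) R') (_ : Module R' V)
      (_ : IsScalarTower (ZMod 2) R' V) (ι : R → R') (α : Bool → R'), (∀ r : R', (∀ x : V, r • x = 0) → r = 0) ∧
      (∀ r (x : V), ι r • x = r • x) ∧ (∀ i (x : V), α i • x = f i x) ∧
      ∀ P : R' → Prop, (∀ r, P (ι r)) → (∀ i, P (α i)) → (∀ r s, P r → P s → P (r + s)) →
        (∀ r s, P r → P s → P (r * s)) → ∀ r, P r := by
  let ρ : R →ₐ[ZMod 2] Module.End (ZMod 2) V := Algebra.lsmul (ZMod 2) (ZMod 2) V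
  have := Algebra.isMulCommutative_adjoin (ZMod 2) (s := Set.range ρ ∪ Set.range f) (by
    rintro _ (⟨r, rfl⟩ | ⟨i, rfl⟩) _ (⟨s, rfl⟩ | ⟨j, rfl⟩)
    exacts [by rw [← map_mul, mul_comm, map_mul], LinearMap.ext fun x => (h2 j r x).symm, LinearMap.ext (h2 i s),
      h1 i j])
  refine ⟨Algebra.adjoin (ZMod 2) (Set.range ρ ∪ Set.range f), inferInstance, inferInstance, inferInstance,
    inferInstance, fun r => ⟨ρ r, Algebra.subset_adjoin (Or.inl ⟨r, rfl⟩)⟩,
    fun i => ⟨f i, Algebra.subset_adjoin (Or.inr ⟨i, rfl⟩)⟩, fun r hr => Subtype.ext (LinearMap.ext hr),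
    fun _ _ => rfl, fun _ _ => rfl, fun P a b c d ⟨r, hr⟩ => ?_⟩
  induction hr using Algebra.adjoin_induction with
  | mem x hx => rcases hx with ⟨r, rfl⟩ | ⟨i, rfl⟩; exacts [a r, b i]
  | algebraMap r => convert a (algebraMap _ _ r); exact (ρ.commutes r).symm
  | add x y _ _ hx hy => exact c _ _ hx hy
  | mul x y _ _ hx hy => exact d _ _ hx hy

theorem Dat.repl (D : Dat Q σ) {a : OG Q} (ha : (a, 1) ∈ D.Gam) (ho : Odd (orderOf a)) :
    ∃ (R' : Type u) (_ : CommRing R') (_ : Algebra (ZMod 2) R') (_ : Module R' V)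
      (_ : IsScalarTower (ZMod 2) R' V) (σ' : R' →+* R') (D' : Dat Q σ'),
      (∀ r : R', (∀ x : V, r • x = 0) → r = 0) ∧ D'.Gam = D.Gam ⊓ Cs (sg Q) (a, 1) ∧
      ∀ v, a.1 v = v → (Adm Q σ v → Adm Q σ' v) ∧
        ∀ x, (∃ r : R', x = r • v) ↔ ∃ r : R, x = r • v := by
  let b : Bool → OG Q := fun i => cond i a a⁻¹
  have hb : ∀ i, b (!i) = (b i)⁻¹ := by rintro (_ | _) <;> simp [b]
  obtain ⟨R', _, _, _, _, ι, α, h0, h1, h2, ind⟩ := exists_adjoin (R := R) (fun i => (b i).1.toLinearMap)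
    (fun i j => LinearMap.ext fun x => by cases i <;> cases j <;> simp [b])
    (by rintro (_ | _); exacts [inv_mem ha, ha])
  replace h2 : ∀ i x, α i • x = (b i).1 x := h2
  have ext : ∀ r s : R', (∀ x : V, r • x = s • x) → r = s := fun r s h =>
    sub_eq_zero.1 (h0 _ fun x => by rw [sub_smul, h, sub_self])
  have cm : ∀ (r s : R') (x : V), r • s • x = s • r • x := fun r s x => by rw [smul_smul, mul_comm, mul_smul]
  have uq : ∀ r s : R', (∀ x y : V, polar Q x (r • y) = polar Q x (s • y)) → r = s := fun r s h => ext _ _ fun y =>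
    sub_eq_zero.1 (eq_zero_of_polar D.nd fun x => by rw [polar_comm, polar_sub_right, h, sub_self])
  choose τ hτ using ind (fun r => ∃ s : R', ∀ x y : V, polar Q (r • x) y = polar Q x (s • y))
    (fun r => ⟨ι (σ r), fun x y => by rw [h1, h1, D.adj]⟩)
    (fun i => ⟨α (!i), fun x y => by rw [h2, h2, hb, OG.polar_apply_left]⟩)
    (fun r s ⟨r', a⟩ ⟨s', b⟩ => ⟨r' + s', fun x y => by rw [add_smul, add_smul, polar_add_left, polar_add_right, a, b]⟩)
    fun r s ⟨r', a⟩ ⟨s', b⟩ => ⟨r' * s', fun x y => by rw [mul_smul, a, b, cm, mul_smul]⟩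
  let σ' : R' →+* R' :=
    { toFun := τ
      map_one' := uq _ _ fun x y => by rw [← hτ, one_smul, one_smul]
      map_mul' := fun r s => uq _ _ fun x y => by rw [← hτ, mul_smul, hτ, hτ, cm, mul_smul]
      map_zero' := uq _ _ fun x y => by rw [← hτ, zero_smul, zero_smul, polar_zero_left, polar_zero_right]
      map_add' := fun r s => uq _ _ fun x y => by
        rw [← hτ, add_smul, add_smul, polar_add_left, polar_add_right, hτ, hτ] }
  have adj : ∀ (r : R') (x y : V), polar Q (r • x) y = polar Q x (σ' r • y) := hτ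
  clear_value σ'
  have s1 : ∀ r, σ' (ι r) = ι (σ r) := fun r => uq _ _ fun x y => by rw [← adj, h1, h1, D.adj]
  have s2 : ∀ i, σ' (α i) = α (!i) := fun i => uq _ _ fun x y => by rw [← adj, h2, h2, hb, OG.polar_apply_left]
  have fix : ∀ x : V, (∀ r, σ r • x = r • x) → (∀ i, (b i).1 x = x) → ∀ r, σ' r • x = r • x := fun x a c =>
    ind _ (fun r => by rw [s1, h1, h1, a]) (fun i => by rw [s2, h2, h2, c, c])
      (fun r s a b => by rw [map_add, add_smul, add_smul, a, b]) fun r s a b => by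
        rw [map_mul, mul_smul, b, cm, a, mul_comm, mul_smul]
  have D' : Dat Q σ' := ⟨fun r => uq _ _ fun x y => by rw [← adj, polar_comm, ← adj, polar_comm], D.nd, adj,
    ind (fun r => ∀ x : V, Q (r • x) = Q (σ' r • x)) (fun r x => by rw [s1, h1, h1, D.qc])
      (fun i x => by rw [s2, h2, h2, OG.map_Q, OG.map_Q])
      (fun r s a b x => by
        rw [map_add, add_smul, add_smul, Q_add, Q_add, a, b, adj, ← adj s, polar_comm Q (s • _), cm])
      fun r s a b x => by rw [map_mul, mul_smul, a, cm, b, cm, mul_smul],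
    ind _ (fun r => let ⟨s, e⟩ := D.sq r; ⟨ι s, ext _ _ fun x => by rw [mul_smul, h1, h1, h1, e, mul_smul]⟩)
      (fun i => ?_) (fun r s ⟨r', a⟩ ⟨s', b⟩ => ⟨r' + s', by rw [a, b]; linear_combination -add_self_R (r' * s')⟩)
      fun r s => IsSquare.mul,
    fun x hx => fix x (D.un x fun c hc => by
      rw [← h1, hx _ (ext _ _ fun y => by rw [s1, mul_smul, h1, h1, smul_smul, hc, one_smul, one_smul])]) fun i => by
      rw [← h2, hx _ (ext _ _ fun y => by rw [s2, mul_smul, h2, h2, hb, OG.apply_inv_self, one_smul])]⟩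
  · have t1 : ∀ δ r, tw σ' δ (ι r) = ι (tw σ δ r) := fun δ r => by
      rcases Int.units_eq_one_or δ with rfl | rfl <;> simp [s1]
    have t2 : ∀ δ i (x : V), tw σ' δ (α i) • x = (b i ^ (δ : ℤ)).1 x := fun δ i x => by
      rcases Int.units_eq_one_or δ with rfl | rfl <;> simp [s2, h2, hb]
    refine ⟨R', _, _, _, inferInstance, σ', D', h0, Subgroup.ext fun g => ⟨fun hg => ⟨fun r x => ?_, Prod.ext
      (mul_inv_eq_iff_eq_mul.2 (OG.ext fun x => ?_)) (by simp)⟩, fun ⟨g1, g2⟩ => ind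
        (fun r => ∀ x : V, g.1.1 (r • x) = tw σ' g.2 r • g.1.1 x) (fun r x => by rw [t1, h1, h1, g1]) (fun i x => ?_)
        (fun r s a b x => by rw [add_smul, map_add, map_add, add_smul, a, b])
        fun r s a b x => by rw [mul_smul, map_mul, mul_smul, a, b]⟩, fun v hv => ?_⟩
    · rw [← h1, hg, t1, h1]
    · exact ((congrArg _ (h2 true x).symm).trans (hg _ x)).trans (t2 _ _ _)
    · have e : g.1 * a * g.1⁻¹ = a ^ (g.2 : ℤ) := congrArg Prod.fst g2
      have e' : g.1 * b i * g.1⁻¹ = b i ^ (g.2 : ℤ) := by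
        cases i
        exacts [by rw [show b false = a⁻¹ from rfl, inv_zpow, ← e]; group, e]
      rw [t2, h2, ← e', OG.mul_apply, OG.mul_apply, OG.inv_apply_self]
    have hv' : ∀ i, (b i).1 v = v := by
      rintro (_ | _)
      exacts [a.1.injective ((OG.apply_inv_self _ _).trans hv.symm), hv]
    have key : ∀ r : R', ∃ s : R, r • v = s • v := ind _ (fun r => ⟨r, h1 r v⟩) (fun i => ⟨1, by rw [h2, hv', one_smul]⟩)
      (fun r s ⟨r', a⟩ ⟨s', b⟩ => ⟨r' + s', by rw [add_smul, add_smul, a, b]⟩)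
      fun r s ⟨r', a⟩ ⟨s', b⟩ => ⟨s' * r', by rw [mul_smul, b, ← h1, cm, a, h1, mul_smul]⟩
    refine ⟨fun h => ⟨fix v h.1 hv', fun r hr => ?_⟩, fun x =>
      ⟨fun ⟨r, e⟩ => (key r).imp fun _ => e.trans, fun ⟨r, e⟩ => ⟨ι r, by rw [h1, e]⟩⟩⟩
    obtain ⟨s, e⟩ := key r
    exact e ▸ h.2 s fun t => by rw [← e, ← h1, hr]
  · obtain ⟨k, hk⟩ := ho
    have p : ∀ n (x : V), α i ^ n • x = (b i ^ n).1 x := fun n => by
      induction n with
      | zero => simp
      | succ n ih => intro x; rw [pow_succ, pow_succ, mul_smul, ih, h2, OG.mul_apply]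
    have o : b i ^ (2 * k + 1) = 1 := by cases i <;> simp [b, ← hk]
    exact ⟨α i ^ (k + 1), ext _ _ fun x => by
      rw [← pow_add, p, show k + 1 + (k + 1) = 2 * k + 1 + 1 by ring, pow_succ, o, one_mul, h2]⟩

end CfsgLib.FsTw
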