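import Cfsg.Agent.Lib.FsTw.Prod
import Cfsg.Agent.Lib.FsTw.Heis

/-!
Semidirect products with a normal subgroup of class at most two.
-/

set_option autoImplicit false
set_option linter.unusedSectionVars false

namespace CfsgLib.FsTw

open Cfsg CfsgLib.Char Matrix
open scoped ComplexOrder

variable {X : Type*} [Group X] [Finite X] {s : X →* ℤˣ} {I : Type*} [AddCommGroup I] [Finite I]
  {N L : Subgroup X} {lam : X → I →+ ZMod 2}

theorem Irr.central {ψ : X → ℂ} (h : Irr s ψ) {z : X} (hz : s z = 1) (h1 : z * z = 1)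
    (h2 : ∀ x, x * z = z * x) :
    (∀ g, s g = 1 → ψ (g * z) = ψ g) ∨ ∀ g, s g = 1 → ψ (g * z) = -ψ g := by
  obtain ⟨m, α, h3, h4⟩ := exists_sch h
  obtain ⟨c, hc⟩ := h3.2 (α ⟨z, hz⟩) fun g => by
    rw [← map_mul, ← map_mul]; exact congrArg α (Subtype.ext (h2 g).symm)
  have h5 : ∀ g, s g = 1 → ψ (g * z) = c * ψ g := fun g hg => by
    have := h4 (⟨g, hg⟩ * ⟨z, hz⟩)
    rw [map_mul, hc, mul_smul_comm, mul_one, trace_smul, h4] at this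
    exact this.symm
  have h6 := h5 (1 * z) (by simpa)
  rw [h5 1 (map_one s), one_mul, h1, ← mul_assoc, eq_comm,
    mul_eq_right₀ (show ψ 1 ≠ 0 from irr_one_ne_zero (G := s.ker) h), mul_self_eq_one_iff] at h6
  exact h6.imp (fun e g hg => by rw [h5 g hg, e, one_mul]) fun e g hg => by rw [h5 g hg, e, neg_one_mul]

theorem Semi.good (h : Semi s N L lam) {Y : I → Subgroup X}
    (hY : ∀ y l, l ∈ Y y ↔ l ∈ L ∧ ∀ n ∈ N, lam (l * n * l⁻¹) y = lam n y)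
    (gY : ∀ y, GoodS s (Y y)) (he : ∀ z ∈ N, lam z = 0 → z ≠ 1 →
      (∀ n ∈ N, lam n ≠ 0 → ∃ m ∈ N, n * m = z * (m * n)) ∧ ∃ a ∈ L, Odd (orderOf a) ∧
        L ≤ Cs s a ∧ ∀ n ∈ N, lam (a * n * a⁻¹) = lam n → lam n = 0) : Good s :=
  good_of_irr fun ψ hψ => by
    by_cases hz : ∀ z ∈ N, lam z = 0 → ∀ g, s g = 1 → ψ (g * z) = ψ g
    · exact h.cf hY gY hψ.ch hz
    simp only [not_forall (α := X), Classical.not_imp] at hz
    obtain ⟨z, z1, z2, g, z3, z4⟩ := hz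
    obtain ⟨h1, a, h2, h3, h4, h5⟩ := he z z1 z2 fun e => z4 (by rw [e, mul_one])
    exact h.heis ((Subgroup.ext fun l => by simp [hY] : Y 0 = L) ▸ gY 0) z1 z2 h1 h2 h3 h4 h5 hψ
      ((hψ.central (h.sN z z1) (h.cen z z1 z2).1 (h.cen z z1 z2).2).resolve_left fun e => z4 (e g z3))

theorem goodS_semi {H : Subgroup X} (lam : X → I →+ ZMod 2) (hN : N ≤ H) (hL : L ≤ H)
    (norm : ∀ x ∈ H, ∀ n ∈ N, x * n * x⁻¹ ∈ N) (dec : ∀ x ∈ H, ∃ n ∈ N, ∃ l ∈ L, x = n * l)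
    (disj : ∀ x ∈ N, x ∈ L → x = 1) (sN : ∀ n ∈ N, s n = 1)
    (mul : ∀ n ∈ N, ∀ m ∈ N, lam (n * m) = lam n + lam m)
    (cen : ∀ z ∈ N, lam z = 0 → z * z = 1 ∧ ∀ x ∈ H, x * z = z * x)
    (gY : ∀ y, ∃ Y, GoodS s Y ∧ ∀ l, l ∈ Y ↔ l ∈ L ∧ ∀ n ∈ N, lam (l * n * l⁻¹) y = lam n y)
    (he : ∀ z ∈ N, lam z = 0 → z ≠ 1 →
      (∀ n ∈ N, lam n ≠ 0 → ∃ m ∈ N, n * m = z * (m * n)) ∧ ∃ a ∈ L, Odd (orderOf a) ∧
        L ≤ Cs s a ∧ ∀ n ∈ N, lam (a * n * a⁻¹) = lam n → lam n = 0) : GoodS s H := by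
  choose Y gY hY using gY
  refine Semi.good (N := N.subgroupOf H) (L := L.subgroupOf H) (lam := fun x => lam x)
    ⟨⟨fun n hn x => norm x x.2 n hn⟩, fun x => ?_, fun x a b => Subtype.ext (disj x a b),
      fun n => sN n, fun n a m => mul n a m, fun z a b =>
        ⟨Subtype.ext (cen z a b).1, fun x => Subtype.ext ((cen z a b).2 x x.2)⟩⟩
    (Y := fun y => (Y y).subgroupOf H) (fun y l => (hY y l).trans (and_congr_right fun _ =>
      ⟨fun a n => a n, fun a n hn => a ⟨n, hN hn⟩ hn⟩))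
    (fun y => (gY y).subgroupOf fun l hl => hL ((hY y l).1 hl).1) fun z a b c => ?_
  · obtain ⟨n, a, l, b, c⟩ := dec x x.2
    exact ⟨⟨n, hN a⟩, a, ⟨l, hL b⟩, b, Subtype.ext c⟩
  · obtain ⟨h1, a, h2, h3, h4, h5⟩ := he z a b fun e => c (Subtype.ext e)
    refine ⟨fun n x y => ?_, ⟨a, hL h2⟩, h2, by rwa [← Subgroup.orderOf_coe],
      fun l hl => Subtype.ext (h4 hl), fun n => h5 n⟩
    obtain ⟨m, m1, m2⟩ := h1 n x y
    exact ⟨⟨m, hN m1⟩, m1, Subtype.ext m2⟩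

end CfsgLib.FsTw
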