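import Cfsg.Agent.Lib.FsTw.Herm
import Cfsg.Agent.Lib.FsTw.Semi
import Cfsg.Agent.Lib.FsTw.Dec

/-!
The stabiliser of a singular vector.
-/

set_option autoImplicit false
set_option linter.unusedSectionVars false

namespace CfsgLib.FsTw

open QuadraticMap CfsgLib.Orth

universe u

variable {V R : Type u} [AddCommGroup V] [Module (ZMod 2) V] [CommRing R] [Algebra (ZMod 2) R]
  [Module R V] [IsScalarTower (ZMod 2) R V] [Finite V] {Q : QuadraticForm (ZMod 2) V}
  {σ : R →+* R} {t : R →+ ZMod 2} {h : V → V → R} {u u' v : V} {n m : OG Q × ℤˣ}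

/-- a hyperbolic pair orthogonal to `v` -/
structure Pr (Q : QuadraticForm (ZMod 2) V) (h : V → V → R) (u u' v : V) : Prop where
  su : ∀ r : R, Q (r • u) = 0
  su' : ∀ r : R, Q (r • u') = 0
  uu' : h u u' = 1
  vu : h v u = 0
  vu' : h v u' = 0

/-- the unipotent radical -/
def Dat.Nn (D : Dat Q σ) (h : V → V → R) (u v : V) : Subgroup (OG Q × ℤˣ) where
  carrier := {g | g ∈ D.St {u, v} ∧ g.2 = 1 ∧ ∀ z, h z u = 0 → ∃ c : R, g.1.1 z = z + c • u}
  one_mem' := ⟨one_mem _, rfl, fun z _ => ⟨0, by simp⟩⟩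
  mul_mem' := by
    rintro g g' ⟨g1, g2, g3⟩ ⟨h1, h2, h3⟩
    refine ⟨mul_mem g1 h1, by simp [g2, h2], fun z hz => ?_⟩
    obtain ⟨c, hc⟩ := g3 z hz
    obtain ⟨c', hc'⟩ := h3 z hz
    exact ⟨c + tw σ g.2 c', by
      rw [Prod.fst_mul, OG.mul_apply, hc', map_add, hc, g1.1, g1.2 u (by simp), add_smul, add_assoc]⟩
  inv_mem' := by
    rintro g ⟨g1, g2, g3⟩
    refine ⟨inv_mem g1, by simp [g2], fun z hz => ?_⟩
    obtain ⟨c, hc⟩ := g3 z hz
    exact ⟨tw σ g.2 c, g.1.1.injective (by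
      rw [Prod.fst_inv, OG.apply_inv_self, map_add, hc, g1.1, g1.2 u (by simp), D.tw_tw, add_assoc,
        add_self_V, add_zero])⟩

/-- the linear characters of the unipotent radical -/
def lam (u' : V) (W : Submodule R V) (g : OG Q × ℤˣ) : W →+ ZMod 2 :=
  AddMonoidHom.mk' (fun y => polar Q (g.1.1 u') y) fun _ _ => polar_add_right _ _ _ _

theorem lam_apply (W : Submodule R V) (g : OG Q × ℤˣ) (y : W) :
    lam u' W g y = polar Q (g.1.1 u') y := rfl

variable {D : Dat Q σ}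

theorem N_lin (hn : n ∈ D.Nn h u v) (r : R) (x : V) : n.1.1 (r • x) = r • n.1.1 x := by
  rw [hn.1.1, hn.2.1]; simp

theorem N_u (hn : n ∈ D.Nn h u v) : n.1.1 u = u := hn.1.2 u (by simp)

theorem N_v (hn : n ∈ D.Nn h u v) : n.1.1 v = v := hn.1.2 v (by simp)

theorem Dat.adjust (D : Dat Q σ) [Finite R] (S : Smp V σ) (H : Herm Q σ t h)
    (su : ∀ r : R, Q (r • u) = 0) {x : V} (hx : h x u = 1) :
    ∃ c : R, ∀ r : R, Q (r • (x + c • u)) = 0 := by
  obtain ⟨c, hc⟩ := D.exists_c S H x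
  refine ⟨σ c, fun r => ?_⟩
  rw [smul_add, Q_add, smul_smul, su, hc, H.polar_smul D, hx, map_mul σ, D.σσ, add_zero, ← map_add]
  rw [show c * (r * σ r) + r * (σ r * c) * 1 = 0 by linear_combination add_self_R (c * r * σ r),
    map_zero]

namespace Pr

variable (D) (H : Herm Q σ t h) (P : Pr Q h u u' v)
include D H P

theorem uu : h u u = 0 := H.self_of_sing D P.su

theorem u'u' : h u' u' = 0 := H.self_of_sing D P.su'

theorem u'u : h u' u = 1 := by rw [H.swap D, P.uu', map_one]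

theorem proj (z : V) : h (z + h z u • u') u = 0 := by
  rw [H.add_left, H.smul_left, P.u'u D H, mul_one, add_self_R]

theorem exists_N {x : V} (hx : h x u = 1) (sx : ∀ r : R, Q (r • x) = 0) (vx : h v x = 0) :
    ∃ n ∈ D.Nn h u v, n.1.1 u' = x := by
  have ux : h u x = 1 := by rw [H.swap D, hx, map_one]
  let f : V →+ V := AddMonoidHom.mk'
    (fun z => z + h z u • u' + h (z + h z u • u') (x + u') • u + h z u • x) fun a b => by
      simp only [H.add_left, H.smul_left, add_smul]; abel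
  have hf : ∀ z, Q (f z) = Q z := fun z => by
    have h1 := P.proj D H z
    change Q (z + h z u • u' + h (z + h z u • u') (x + u') • u + h z u • x) = Q z
    conv_rhs => rw [show z = z + h z u • u' + h z u • u' by rw [add_assoc, add_self_V, add_zero]]
    generalize z + h z u • u' = w at *
    simp only [Q_add, P.su, P.su', sx, H.polar_eq, H.smul_right D, H.add_left, H.smul_left, h1, ux,
      H.add_right, mul_zero, map_zero, add_zero, mul_one, ← add_assoc, add_self_R, zero_add]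
  have hz : ∀ z, h z u = 0 → f z = z + h z (x + u') • u := fun z hz => by simp [f, hz]
  refine ⟨(OG.ofMap D.nd (f.toZModLinearMap 2) hf, 1), ⟨⟨fun r z => ?_, ?_⟩, rfl,
    fun z e => ⟨_, hz z e⟩⟩, ?_⟩
  · change f (r • z) = tw σ 1 r • f z
    simp only [f, AddMonoidHom.mk'_apply, H.add_left, H.smul_left, tw_one, RingHom.id_apply]
    module
  · rintro z (rfl | rfl)
    · exact (hz _ (P.uu D H)).trans (by simp [H.add_right, ux, P.uu', add_self_R])
    · exact (hz _ P.vu).trans (by simp [H.add_right, vx, P.vu'])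
  · change f u' = x
    simp [f, P.u'u D H, add_self_V, H.zero_left]

variable {D} (hn : n ∈ D.Nn h u v)
include hn

omit P in
theorem N_map (x y : V) : h (n.1.1 x) (n.1.1 y) = h x y := by rw [H.map D hn.1.1, hn.2.1]; simp

theorem N_uu' : h u (n.1.1 u') = 1 := by rw [← P.uu', ← N_map H hn u u', N_u hn]

theorem N_u'u : h (n.1.1 u') u = 1 := by rw [H.swap D, P.N_uu' H hn, map_one]

theorem N_d : h (n.1.1 u' + u') u = 0 := by rw [H.add_left, P.N_u'u H hn, P.u'u D H, add_self_R]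

theorem N_apply {z : V} (hz : h z u = 0) : n.1.1 z = z + h z (n.1.1 u' + u') • u := by
  obtain ⟨c, hc⟩ := hn.2.2 z hz
  have := N_map H hn z u'
  rw [hc, H.add_left, H.smul_left, P.N_uu' H hn] at this
  rw [hc, H.add_right, ← this, ← add_assoc, add_self_R, zero_add, mul_one]

theorem N_apply' (z : V) :
    n.1.1 z = z + h z u • (n.1.1 u' + u') + h (z + h z u • u') (n.1.1 u' + u') • u := by
  have := P.N_apply H hn (P.proj D H z)
  rw [map_add, N_lin hn] at this
  linear_combination (norm := module) this - add_self_V (h z u • n.1.1 u')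

theorem N_ext (hm : m ∈ D.Nn h u v) (e : n.1.1 u' = m.1.1 u') : n = m :=
  Prod.ext (OG.ext fun z => by rw [P.N_apply' H hn, P.N_apply' H hm, e]) (hn.2.1.trans hm.2.1.symm)

theorem N_mul (hm : m ∈ D.Nn h u v) : n.1.1 (m.1.1 u') =
    n.1.1 u' + (m.1.1 u' + u') + h (m.1.1 u' + u') (n.1.1 u' + u') • u := by
  rw [add_assoc, ← P.N_apply H hn (P.N_d H hm), map_add, add_comm (n.1.1 u'), add_assoc, add_self_V,
    add_zero]

theorem Z_spec (h0 : lam u' (D.perp (Submodule.span R {u, u'})) n = 0) :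
    ∃ c : R, σ c = c ∧ (∀ r, t (r * σ r * c) = 0) ∧ ∀ x, n.1.1 x = x + (h x u * c) • u := by
  obtain ⟨c, b, h1⟩ := Submodule.mem_span_pair.1 (D.mem_of_perp_perp (x := n.1.1 u')
    fun y hy => DFunLike.congr_fun h0 ⟨y, hy⟩)
  have h2 := P.N_u'u H hn
  have h3 := N_map H hn u' u'
  have h4 : ∀ r : R, Q (r • n.1.1 u') = 0 := fun r => by rw [← N_lin hn, OG.map_Q, P.su']
  rw [← h1, H.add_left, H.smul_left, H.smul_left, P.uu D H, P.u'u D H, mul_zero, zero_add,
    mul_one] at h2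
  rw [h2, one_smul] at h1
  simp only [← h1, H.add_left, H.add_right, H.smul_left, H.smul_right D, P.uu D H, P.u'u D H, P.uu',
    P.u'u' D H] at h3
  refine ⟨c, by linear_combination h3 - add_self_R c, fun r => ?_, fun x => ?_⟩
  · have := h4 (σ r)
    rwa [← h1, smul_add, Q_add, smul_smul, P.su, P.su', H.polar_smul D, P.uu', D.σσ, zero_add,
      zero_add, mul_one, mul_right_comm, mul_comm (σ r)] at this
  · rw [P.N_apply' H hn, ← h1, add_assoc (c • u), add_self_V, add_zero, H.smul_right D, P.proj D H,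
      mul_zero, zero_smul, add_zero, smul_smul]

omit hn

theorem nd : Nd Q (Submodule.span R {u, u'}) := fun x hx e => by
  obtain ⟨a, b, rfl⟩ := Submodule.mem_span_pair.1 hx
  have := (H.mem_perp_pair D).1 e
  simp only [H.add_left, H.smul_left, P.uu D H, P.u'u D H, P.uu', P.u'u' D H, mul_zero, mul_one,
    add_zero, zero_add] at this
  simp [this.1, this.2]

theorem exists_N' [Finite R] (S : Smp V σ) {w : V} (h1 : h w u = 0) (h2 : h w v = 0) :
    ∃ n ∈ D.Nn h u v, ∃ c : R, n.1.1 u' = u' + w + c • u := by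
  have h3 : h (u' + w) u = 1 := by rw [H.add_left, h1, P.u'u D H, add_zero]
  obtain ⟨c, hc⟩ := D.adjust S H P.su h3
  obtain ⟨n, h4, h5⟩ := P.exists_N D H (x := u' + w + c • u)
    (by rw [H.add_left, h3, H.smul_left, P.uu D H, mul_zero, add_zero]) hc
    (by simp [H.add_right, H.smul_right D, P.vu, P.vu', H.swap_zero D h2])
  exact ⟨n, h4, c, h5⟩

omit P in
theorem N_norm {g : OG Q × ℤˣ} (hg : g ∈ D.St {u, v}) (hn : n ∈ D.Nn h u v) :
    g * n * g⁻¹ ∈ D.Nn h u v := by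
  refine ⟨mul_mem (mul_mem hg hn.1) (inv_mem hg), by simp [hn.2.1], fun z hz => ?_⟩
  obtain ⟨c, hc⟩ := hn.2.2 (g⁻¹.1.1 z) (by
    rw [← (inv_mem hg).2 u (by simp), H.map D (inv_mem hg).1, hz, map_zero])
  exact ⟨tw σ g.2 c, by
    rw [Prod.fst_mul, Prod.fst_mul, OG.mul_apply, OG.mul_apply, hc, map_add, hg.1, hg.2 u (by simp),
      Prod.fst_inv, OG.apply_inv_self]⟩

theorem lam_mul (hn : n ∈ D.Nn h u v) (hm : m ∈ D.Nn h u v) :
    lam u' (D.perp (Submodule.span R {u, u'})) (n * m) = lam u' _ n + lam u' _ m := by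
  ext y
  obtain ⟨h1, h2⟩ := (H.mem_perp_pair D).1 y.2
  rw [AddMonoidHom.add_apply, lam_apply, lam_apply, lam_apply, Prod.fst_mul, OG.mul_apply,
    P.N_mul H hn hm]
  simp [H.polar_eq, H.add_left, H.smul_left, H.swap_zero D h1, H.swap_zero D h2]

theorem stab [Finite R] (S : Smp V σ) (y : D.perp (Submodule.span R {u, u'})) (l : OG Q × ℤˣ) :
    l ∈ D.St {u, u'} ⊓ D.Fam v y ↔ l ∈ D.St {u, u', v} ∧ ∀ n ∈ D.Nn h u v,
      lam u' _ (l * n * l⁻¹) y = lam u' _ n y := by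
  have key : ∀ l ∈ D.St {u, u', v}, ∀ n : OG Q × ℤˣ, (l * n * l⁻¹).1.1 u' = l.1.1 (n.1.1 u') :=
    fun l hl n => by
      rw [Prod.fst_mul, Prod.fst_mul, OG.mul_apply, OG.mul_apply, (inv_mem hl).2 u' (by simp)]
  constructor
  · rintro ⟨⟨h1, h2⟩, -, h3, r, h4⟩
    have h5 : l ∈ D.St {u, u', v} := ⟨h1, by
      rintro _ (rfl | rfl | rfl)
      exacts [h2 _ (by simp), h2 _ (by simp), h3]⟩
    refine ⟨h5, fun n hn => ?_⟩
    have h6 : h (l.1.1 (n.1.1 u')) v = 0 := by
      rw [← h3, H.map D h1, ← N_v hn, N_map H hn, H.swap_zero D P.vu', map_zero]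
    rw [lam_apply, lam_apply, key l h5, ← OG.map_polar l.1 (n.1.1 u'), h4, polar_add_right,
      H.polar_eq _ (r • v), H.smul_right D, h6, mul_zero, map_zero, add_zero]
  rintro ⟨h1, h2⟩
  have hu := h1.2 u (by simp)
  have hu' := h1.2 u' (by simp)
  have hl : l ∈ D.St {u, v} := ⟨h1.1, by rintro _ (rfl | rfl) <;> exact h1.2 _ (by simp)⟩
  obtain ⟨y1, y2⟩ := (H.mem_perp_pair D).1 y.2
  have x1 : h (l.1.1 y + y) u = 0 := by rw [H.add_left, H.map_fix D h1.1 _ hu, y1]; simp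
  have x2 : h (l.1.1 y + y) u' = 0 := by rw [H.add_left, H.map_fix D h1.1 _ hu', y2]; simp
  obtain ⟨r, hr⟩ := H.exists_smul D (v := v) (x := l.1.1 y + y) fun w hw => H.swap_zero D <|
    H.eq_zero_iff.2 fun r => by
      obtain ⟨n, n1, c, n2⟩ := P.exists_N' H S (w := r • (w + h w u • u'))
        (by rw [H.smul_left, P.proj D H, mul_zero])
        (by simp [H.add_left, H.smul_left, hw, H.swap_zero D P.vu'])
      have h3 := h2 _ (N_norm H (inv_mem hl) n1)
      rw [show l * (l⁻¹ * n * l⁻¹⁻¹) * l⁻¹ = n by group, lam_apply, lam_apply, key _ (inv_mem h1),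
        Prod.fst_inv, OG.polar_apply_left l.1⁻¹, inv_inv] at h3
      have h4 : polar Q (n.1.1 u') (l.1.1 y + y) = 0 := by rw [polar_add_right, ← h3, add_self_V]
      generalize l.1.1 y + y = x at *
      simpa [n2, H.polar_eq, H.add_left, H.smul_left, H.swap_zero D x1, H.swap_zero D x2] using h4
  exact ⟨⟨h1.1, by rintro _ (rfl | rfl) <;> assumption⟩, h1.1, h1.2 v (by simp), r, by
    rw [← hr, add_comm _ y.1, ← add_assoc, add_self_V, zero_add]⟩

theorem exists_a [Finite R] {a : R} (h1 : a * σ a = 1) :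
    ∃ A ∈ D.St {u, u', 0}, Odd (orderOf A) ∧ D.St {u, u', 0} ≤ Cs (sg Q) A ∧
      ∀ y ∈ D.perp (Submodule.span R {u, u'}), A.1.1 y = a • y := by
  have hP := P.nd (D := D) H
  obtain ⟨A, A1, A2, A3, A4⟩ := D.glue hP (g₁ := 1) (g₂ := (OG.ofMap (D.res (D.nd_perp hP)).nd
    (DistribSMul.toLinearMap (ZMod 2) _ a) fun x => D.Q_norm h1 x, 1)) (one_mem _)
    (fun r x => smul_comm a r x) rfl
  have A5 : ∀ x ∈ Submodule.span R {u, u'}, A.1.1 x = x := fun x hx => A3 ⟨x, hx⟩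
  have A6 : ∀ y ∈ D.perp (Submodule.span R {u, u'}), A.1.1 y = a • y := fun x hx => A4 ⟨x, hx⟩
  have ext : ∀ g g' : OG Q × ℤˣ, g.2 = g'.2 → (∀ x ∈ Submodule.span R {u, u'}, g.1.1 x = g'.1.1 x) →
      (∀ x ∈ D.perp (Submodule.span R {u, u'}), g.1.1 x = g'.1.1 x) → g = g' := fun g g' e1 e2 e3 =>
    Prod.ext (OG.ext fun x => by
      obtain ⟨p, hp, w, hw, rfl⟩ := D.exists_add_perp hP x
      rw [map_add, map_add, e2 p hp, e3 w hw]) e1
  have A7 : ∀ j : ℕ, (∀ x ∈ Submodule.span R {u, u'}, (A ^ j).1.1 x = x) ∧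
      ∀ y ∈ D.perp (Submodule.span R {u, u'}), (A ^ j).1.1 y = a ^ j • y := fun j => by
    induction j with
    | zero => simp
    | succ j ih =>
      refine ⟨fun x hx => ?_, fun x hx => ?_⟩ <;> rw [pow_succ', Prod.fst_mul, OG.mul_apply]
      · rw [ih.1 x hx, A5 x hx]
      · rw [ih.2 x hx, A6 _ (Submodule.smul_mem _ _ hx), smul_smul, pow_succ']
  refine ⟨A, ⟨A1, ?_⟩, ?_, fun l hl => ?_, A6⟩
  · rintro _ (rfl | rfl | rfl)
    exacts [A5 _ (Submodule.subset_span (by simp)), A5 _ (Submodule.subset_span (by simp)),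
      map_zero _]
  · obtain ⟨k, hk⟩ := D.exists_pow
    obtain ⟨j, hj⟩ : ∃ j, 2 ^ (k + 1) = 2 * j + 1 + 1 := ⟨2 ^ k - 1, by
      have := Nat.one_le_two_pow (n := k); omega⟩
    have h2 : a ^ (2 * j + 1) = 1 := by
      have := hk a
      rw [hj] at this
      linear_combination σ a * this - (a ^ (2 * j + 1) - 1) * h1
    exact Odd.of_dvd_nat ⟨j, rfl⟩ (orderOf_dvd_of_pow_eq_one (ext _ _ (by simp [A2])
      (A7 _).1 fun y hy => by rw [(A7 _).2 y hy, h2, one_smul]; rfl))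
  · have hu := hl.2 u (by simp)
    have hu' := hl.2 u' (by simp)
    have l1 : ∀ x ∈ Submodule.span R {u, u'}, l.1.1 x ∈ Submodule.span R {u, u'} := fun x hx => by
      obtain ⟨b, c, rfl⟩ := Submodule.mem_span_pair.1 hx
      exact Submodule.mem_span_pair.2 ⟨_, _, by rw [map_add, hl.1, hl.1, hu, hu']⟩
    have l2 : ∀ x ∈ D.perp (Submodule.span R {u, u'}),
        l.1.1 x ∈ D.perp (Submodule.span R {u, u'}) := fun x hx => by
      rw [H.mem_perp_pair D] at hx ⊢
      rw [H.map_fix D hl.1 _ hu, H.map_fix D hl.1 _ hu', hx.1, hx.2, map_zero, and_self]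
    rw [mem_Cs, mul_inv_eq_iff_eq_mul]
    rcases Int.units_eq_one_or l.2 with e | e
    · rw [show sg Q l = 1 from e, Units.val_one, zpow_one]
      refine ext _ _ (mul_comm _ _) (fun x hx => ?_) fun x hx => ?_ <;>
        rw [Prod.fst_mul, Prod.fst_mul, OG.mul_apply, OG.mul_apply]
      · rw [A5 x hx, A5 _ (l1 x hx)]
      · rw [A6 x hx, A6 _ (l2 x hx), hl.1, e]; simp
    · rw [show sg Q l = -1 from e, Units.val_neg, Units.val_one, zpow_neg_one, eq_inv_mul_iff_mul_eq]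
      refine ext _ _ (by simp [A2]) (fun x hx => ?_) fun x hx => ?_ <;>
        rw [Prod.fst_mul, Prod.fst_mul, OG.mul_apply, OG.mul_apply]
      · rw [A5 x hx, A5 _ (l1 x hx)]
      · rw [A6 x hx, hl.1, e, A6 _ (Submodule.smul_mem _ _ (l2 x hx)), smul_smul, tw_neg, h1,
          one_smul]

theorem good [Finite R] (S : Smp V σ) (ih : D.IH) (ha : Adm Q σ v) (hu : u ≠ 0) :
    GoodS (sg Q) (D.St {u, v}) := by
  have hP := P.nd (D := D) H
  have u1 : u ∈ Submodule.span R {u, u'} := Submodule.subset_span (by simp)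
  have u2 : u' ∈ Submodule.span R {u, u'} := Submodule.subset_span (by simp)
  refine goodS_semi (N := D.Nn h u v) (L := D.St {u, u', v})
    (lam u' (D.perp (Submodule.span R {u, u'}))) (fun n hn => hn.1)
    (fun l hl => ⟨hl.1, by rintro _ (rfl | rfl) <;> exact hl.2 _ (by simp)⟩)
    (fun g hg n => N_norm H hg) (fun g hg => ?_)
    (fun n hn hl => P.N_ext H hn (one_mem _) (hl.2 u' (by simp))) (fun n hn => hn.2.1)
    (fun n hn m => P.lam_mul H hn) (fun z hz h0 => ?_) (fun y => ⟨_, ?_, P.stab H S y⟩)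
    fun z hz h0 h1 => ?_
  · obtain ⟨n, n1, n2⟩ := P.exists_N D H (x := g.1.1 u')
      (by rw [← hg.2 u (by simp), H.map D hg.1, P.u'u D H, map_one])
      (fun r => by rw [← D.tw_tw g.2 r, ← hg.1, OG.map_Q, P.su'])
      (by rw [← hg.2 v (by simp), H.map D hg.1, P.vu', map_zero])
    have h1 := mul_mem (inv_mem n1.1) hg
    refine ⟨n, n1, n⁻¹ * g, ⟨h1.1, ?_⟩, (mul_inv_cancel_left _ _).symm⟩
    rintro _ (rfl | rfl | rfl)
    exacts [h1.2 _ (by simp), by rw [Prod.fst_mul, OG.mul_apply, ← n2, Prod.fst_inv,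
      OG.inv_apply_self], h1.2 _ (by simp)]
  · obtain ⟨c, c1, -, c2⟩ := P.Z_spec H hz h0
    refine ⟨Prod.ext (OG.ext fun x => ?_) (by simp [hz.2.1]), fun g hg =>
      Prod.ext (OG.ext fun x => ?_) (mul_comm _ _)⟩
    · rw [Prod.fst_mul, OG.mul_apply, c2 x, map_add, N_lin hz, N_u hz, c2 x, add_assoc, add_self_V,
        add_zero]; rfl
    · rw [Prod.fst_mul, Prod.fst_mul, OG.mul_apply, OG.mul_apply, c2, c2, map_add, hg.1, map_mul,
        tw_of_fix c1, ← H.map D hg.1, hg.2 u (by simp)]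
  · refine D.dec_sq (K := D.St {u, u'}) ih hP (fun e => ?_) (fun g hg => hg.1) (fun g hg x hx => ?_)
      (fun g hg x hx => ?_) (fun g hg g' hg' _ e => ⟨hg', ?_⟩)
      ((H.mem_perp_pair D).2 ⟨P.vu, P.vu'⟩) y.2 ha
    · exact hu (by rwa [e] at u1)
    · obtain ⟨b, c, rfl⟩ := Submodule.mem_span_pair.1 hx
      exact Submodule.mem_span_pair.2 ⟨_, _, by
        rw [map_add, hg.1, hg.1, hg.2 u (by simp), hg.2 u' (by simp)]⟩
    · obtain ⟨b, c, rfl⟩ := Submodule.mem_span_pair.1 hx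
      simp only [map_add, hg.1 _, hg.2 u (by simp), hg.2 u' (by simp), D.tw_tw]
    · rintro _ (rfl | rfl)
      exacts [(e _ u1).trans (hg.2 _ (by simp)), (e _ u2).trans (hg.2 _ (by simp))]
  obtain ⟨c, c1, c2, c3⟩ := P.Z_spec H hz h0
  have hσ : ¬ ∀ r, σ r = r := fun e => h1 (P.N_ext H hz (one_mem _) (by
    rw [c3, H.tnd c fun r => by obtain ⟨b, rfl⟩ := D.sq r; simpa [e] using c2 b]; simp))
  obtain ⟨a, a1, a2⟩ := (D.dich S).resolve_left hσ
  obtain rfl : v = 0 := by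
    obtain ⟨r, hr⟩ := not_forall.1 hσ
    refine (D.unit_trace S (x := r) fun e => hr ?_).smul_left_cancel.1 ?_
    · linear_combination e - add_self_R r
    · rw [add_smul, ha.1, add_self_V, smul_zero]
  refine ⟨fun n hn n0 => ?_, ?_⟩
  · obtain ⟨y, hy⟩ := DFunLike.ne_iff.1 n0
    obtain ⟨y1, y2⟩ := (H.mem_perp_pair D).1 y.2
    obtain ⟨r, hr⟩ := D.trace_surj S hσ (x := h y (n.1.1 u' + u')) (fun e => hy (by
      rw [H.add_right, y2, add_zero] at e
      rw [lam_apply, polar_comm, H.polar_eq, e, map_zero]; rfl)) c1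
    obtain ⟨m, hm, b, m1⟩ := P.exists_N' H S (w := r • y.1) (by rw [H.smul_left, y1, mul_zero])
      (H.zero_right _)
    refine ⟨m, hm, P.N_ext H (mul_mem hn hm) (mul_mem hz (mul_mem hm hn)) ?_⟩
    have e1 : h (m.1.1 u' + u') (n.1.1 u' + u') = h y (n.1.1 u' + u') * r := by
      rw [m1, add_comm _ u', ← add_assoc, ← add_assoc, add_self_V, zero_add, H.add_left, H.smul_left,
        H.smul_left, H.swap_zero D (P.N_d H hn), mul_zero, add_zero, mul_comm]
    have e2 := P.N_u'u H (mul_mem hm hn)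
    simp only [Prod.fst_mul, OG.mul_apply] at e2 ⊢
    rw [c3, e2, P.N_mul H hn hm, P.N_mul H hm hn, H.swap D (m.1.1 u' + u'), e1, ← hr]
    linear_combination (norm := module) -add_self_V (σ (h y (n.1.1 u' + u') * r) • u)
  · obtain ⟨A, A1, A2, A3, A4⟩ := P.exists_a H a1
    refine ⟨A, A1, A2, A3, fun n hn e => AddMonoidHom.ext fun y => ?_⟩
    obtain ⟨b, hb⟩ := a2.exists_right_inv
    have := DFunLike.congr_fun e (a • b • y)
    rw [lam_apply, lam_apply, Prod.fst_mul, Prod.fst_mul, OG.mul_apply, OG.mul_apply,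
      (inv_mem A1).2 u' (by simp), Submodule.coe_smul, ← A4 _ (b • y).2, OG.map_polar,
      A4 _ (b • y).2] at this
    rw [lam_apply, ← one_smul R y.1, ← hb, mul_smul, add_smul, one_smul, polar_add_right]
    exact (congrArg₂ (· + ·) this.symm rfl).trans (add_self_R _)

end Pr

theorem Dat.sing (D : Dat Q σ) [Finite R] (S : Smp V σ) (H : Herm Q σ t h) (ih : D.IH)
    (ha : Adm Q σ v) (hu : u ≠ 0) (su : ∀ r : R, Q (r • u) = 0) (vu : h v u = 0) :
    GoodS (sg Q) (D.St {u, v}) := by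
  by_cases h0 : ∀ g ∈ D.St {u, v}, g.2 ≠ -1
  · exact goodS_of_sq fun g hg e => (h0 g hg e).elim
  push Not at h0
  obtain ⟨g, hg, e⟩ := h0
  obtain ⟨x, x1, x2⟩ : ∃ x, h x v = 0 ∧ h u x ≠ 0 := by
    by_contra! h1
    obtain ⟨r, rfl⟩ := H.exists_smul D h1
    exact hu (ha.2 r su)
  obtain ⟨a, b, hab⟩ := D.span S x2
  have h1 : h u (g.1.1 x) = σ (h u x) := by
    conv_lhs => rw [← hg.2 u (by simp), H.map D hg.1, e, tw_neg]
  have h2 : h v (g.1.1 x) = 0 := by
    rw [← hg.2 v (by simp), H.map D hg.1, H.swap_zero D x1, map_zero]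
  have h3 : h u (σ a • x + σ b • g.1.1 x) = 1 := by
    rw [H.add_right, H.smul_right D, H.smul_right D, D.σσ, D.σσ, h1, hab]
  obtain ⟨c, hc⟩ := D.adjust S H su (x := σ a • x + σ b • g.1.1 x) (by rw [H.swap D, h3, map_one])
  exact Pr.good H ⟨su, hc, by rw [H.add_right, h3, H.smul_right D, H.self_of_sing D su]; simp, vu, by
    simp [H.add_right, H.smul_right D, h2, vu, H.swap_zero D x1]⟩ S ih ha hu

end CfsgLib.FsTw
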