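import Cfsg.Agent.Lib.FsTw.Model

/-!
A twisted Brauer–Witt theorem.
-/

set_option autoImplicit false
set_option linter.unusedSectionVars false

namespace CfsgLib.FsTw

open Cfsg CfsgLib.Char Matrix
open scoped ComplexOrder ComplexConjugate

variable {X : Type*} [Group X] [Finite X] {s : X →* ℤˣ}

namespace Tb

/-- multiples of `k` by algebraic integers -/
def mul (k : ℂ) : AddSubgroup ℂ where
  carrier := {z | ∃ α, IsIntegral ℤ α ∧ z = k * α}
  zero_mem' := ⟨0, isIntegral_zero, by simp⟩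
  add_mem' := by
    rintro _ _ ⟨α, h1, rfl⟩ ⟨β, h2, rfl⟩
    exact ⟨α + β, h1.add h2, by ring⟩
  neg_mem' := by
    rintro _ ⟨α, h1, rfl⟩
    exact ⟨-α, h1.neg, by ring⟩

theorem isIntegral_nat (n : ℕ) : IsIntegral ℤ (n : ℂ) := by
  simpa using (isIntegral_algebraMap (R := ℤ) (A := ℂ) (x := (n : ℤ)))

theorem isIntegral_int (n : ℤ) : IsIntegral ℤ (n : ℂ) := by
  simpa using (isIntegral_algebraMap (R := ℤ) (A := ℂ) (x := n))

/-- the twisted conjugation action -/
@[reducible] def act (s : X →* ℤˣ) : MulAction X X where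
  smul x g := x * g ^ (s x : ℤ) * x⁻¹
  one_smul g := by
    change 1 * g ^ (s 1 : ℤ) * 1⁻¹ = g
    simp
  mul_smul x y g := by
    change x * y * g ^ (s (x * y) : ℤ) * (x * y)⁻¹ = x * (y * g ^ (s y : ℤ) * y⁻¹) ^ (s x : ℤ) * x⁻¹
    rw [conj_zpow, ← _root_.zpow_mul, map_mul, Units.val_mul, mul_comm (s y : ℤ)]
    group

theorem tw_bij (s : X →* ℤˣ) (x : X) : Function.Bijective fun g => x * g ^ (s x : ℤ) * x⁻¹ :=
  letI := act s
  MulAction.bijective x

theorem mem_Cs' {a x : X} : x ∈ Cs s a ↔ x * a ^ (s x : ℤ) * x⁻¹ = a := by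
  rw [mem_Cs]
  rcases Int.units_eq_one_or (s x) with h | h
  · simp [h]
  · rw [← _root_.inv_inj]
    simp [h, mul_assoc]

theorem orbit_sum {G α : Type*} [Group G] [MulAction G α] [Fintype α] (I : AddSubgroup ℂ) (S : α → ℂ)
    (hS : ∀ (g : G) a, S (g • a) = S a) (h : ∀ a, ((MulAction.stabilizer G a).index : ℂ) * S a ∈ I) :
    ∑ a, S a ∈ I := by
  classical
  have := Fintype.ofFinite (MulAction.orbitRel.Quotient G α)
  rw [← Finset.sum_fiberwise Finset.univ (Quotient.mk (MulAction.orbitRel G α))]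
  refine I.sum_mem fun q _ => ?_
  obtain ⟨a, rfl⟩ := Quotient.exists_rep q
  rw [Finset.sum_congr rfl (g := fun _ => S a), Finset.sum_const, nsmul_eq_mul]
  · refine (congrArg (fun n : ℕ => (n : ℂ) * S a ∈ I) ?_).mpr (h a)
    rw [MulAction.index_stabilizer, Set.ncard_eq_toFinset_card']
    congr 1
    ext b
    simp only [Finset.mem_filter, Finset.mem_univ, true_and, Set.mem_toFinset]
    exact Quotient.eq.trans MulAction.orbitRel_apply
  · intro b hb
    obtain ⟨g, rfl⟩ := MulAction.orbitRel_apply.1 (Quotient.exact (Finset.mem_filter.1 hb).2)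
    exact hS g a

theorem card_eq {τ : X} (hτ : s τ = -1) : Nat.card X = 2 * Nat.card s.ker := by
  have h1 : s.range = ⊤ := MonoidHom.range_eq_top.2 fun u => by
    rcases Int.units_eq_one_or u with rfl | rfl
    · exact ⟨1, map_one s⟩
    · exact ⟨τ, hτ⟩
  rw [← s.ker.index_mul_card, Subgroup.index_ker, h1, Subgroup.card_top]
  simp

theorem sum_sub [Fintype X] (C : Subgroup X) [Fintype C] [DecidablePred (· ∈ C)] (h : X → ℂ) :
    ∑ u : C, h u = ∑ g, if g ∈ C then h g else 0 := by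
  rw [← Finset.sum_filter]
  exact (Finset.sum_subtype _ (by simp) h).symm

theorem int_avg {Y N : Type*} [Group Y] [Finite Y] [Group N] [Fintype N] {θ : Y → ℂ} (hθ : IsCharacter Y θ)
    (i : N →* Y) {b : Y} (hb : ∀ n, Commute b (i n)) {w : N → ℂ} (hw : IsCharacter N w) :
    IsIntegral ℤ ((Nat.card N : ℂ)⁻¹ * ∑ n, w n * θ (b * i n)) := by
  have h1 := isCharacter_mul (isCharacter_comp (MonoidHom.snd Y N) hw) (isCharacter_comp (MonoidHom.fst Y N) hθ)
  have h2 := isCharacter_avg h1 (i.prod (MonoidHom.id N)) ((MonoidHom.inl Y N).comp (Subgroup.zpowers b).subtype) 1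
    fun y => ⟨Equiv.refl N, fun n => ⟨by
      obtain ⟨_, k, rfl⟩ := y
      exact Prod.ext ((hb n).zpow_left k).eq (by simp), rfl⟩⟩
  simpa [(hb _).eq] using isIntegral_char h2 ⟨b, Subgroup.mem_zpowers b⟩

/-- a Frobenius type congruence -/
theorem frob [Fintype X] [DecidableEq X] {G : X → ℂ} (hG : ∀ x u, G (x * u ^ (s x : ℤ) * x⁻¹) = G u)
    (hI : ∀ u, IsIntegral ℤ (G u)) (P : Sylow 2 X) [Fintype P.1]
    (loc : ∀ w : P.1 → ℂ, IsCharacter P.1 w → (∀ n, w n⁻¹ = w n) → ∑ n : P.1, w n * G n ∈ mul (Nat.card P.1))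
    {j : ℕ} (hj : Nat.card P.1 ∣ 2 ^ j) :
    ∃ α ∈ mul (Nat.card X), ∃ β ∈ mul (2 ^ j), (∑ u, if u ^ 2 ^ j = 1 then G u else 0) = α + β := by
  have : Fact (Nat.Prime 2) := ⟨Nat.prime_two⟩
  let π : X → ℕ := fun u => Nat.card (MulAction.fixedBy (X ⧸ P.1) u)
  have hπ : IsCharacter X fun u => (π u : ℂ) := isCharacter_perm _
  have hinv : ∀ u, π u⁻¹ = π u := fun u => by simp only [π, MulAction.fixedBy_inv]
  have htw : ∀ x u, (π (x * u ^ (s x : ℤ) * x⁻¹) : ℂ) = π u := fun x u => by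
    refine (isClassFunction_of_isCharacter hπ _ x).trans ?_
    rcases Int.units_eq_one_or (s x) with h | h <;> simp [h, hinv]
  have hind : ∀ u, (π u : ℂ) = (Nat.card P.1 : ℂ)⁻¹ * ∑ x, extendByZero P.1 (fun _ => 1) (x * u * x⁻¹) := fun u => by
    have := congrFun (perm_char_eq_indFun (G := X) (X ⧸ P.1) ((1 : X) : X ⧸ P.1)) u
    rw [MulAction.stabilizer_quotient] at this
    rw [← indFun_apply', ← this]
  have hcong : ∀ u, ∃ k : ℤ, (if u ^ 2 ^ j = 1 then 1 else 0 : ℂ) = π u ^ 2 ^ j + 2 ^ j * k := fun u => by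
    split_ifs with h
    · have h1 : IsPGroup 2 (Subgroup.zpowers u) := IsPGroup.of_card_dvd_pow (n := j) (by
        rw [Nat.card_zpowers]; exact orderOf_dvd_of_pow_eq_one h)
      have h2 := h1.card_modEq_card_fixedPoints (X ⧸ P.1)
      have h3 : MulAction.fixedPoints (Subgroup.zpowers u) (X ⧸ P.1) = MulAction.fixedBy (X ⧸ P.1) u := by
        ext q
        refine ⟨fun hq => hq ⟨u, Subgroup.mem_zpowers u⟩, fun hq ⟨y, hy⟩ => ?_⟩
        exact (Subgroup.zpowers_le (H := MulAction.stabilizer X q)).2 hq hy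
      rw [h3] at h2
      have h4 : (π u).Coprime (2 ^ (j + 1)) := Nat.Coprime.pow_right _ ((Nat.prime_two.coprime_iff_not_dvd.2
        fun hd => P.not_dvd_index ((h2.dvd_iff dvd_rfl).2 hd)).symm)
      have h5 := Nat.ModEq.pow_totient h4
      rw [Nat.totient_prime_pow_succ Nat.prime_two] at h5
      obtain ⟨k, hk⟩ := (h5.of_dvd (pow_dvd_pow 2 j.le_succ)).dvd
      refine ⟨k, ?_⟩
      have := congrArg (Int.cast : ℤ → ℂ) hk
      push_cast at this
      simp only [mul_one] at this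
      linear_combination this
    · refine ⟨0, ?_⟩
      rw [hind, Finset.sum_eq_zero]
      · simp
      · refine fun x _ => extendByZero_of_not_mem _ _ fun hx => h ?_
        have := orderOf_dvd_iff_pow_eq_one.1 ((Subgroup.orderOf_dvd_natCard _ hx).trans hj)
        rwa [conj_pow, mul_inv_eq_one, mul_eq_left] at this
  choose k hk using hcong
  obtain ⟨α, hα, e⟩ := loc (fun n => (π n : ℂ) ^ (2 ^ j - 1)) (isCharacter_restrict _ (isCharacter_pow hπ _))
    fun n => by simp [hinv]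
  refine ⟨_, ⟨α, hα, rfl⟩, _, ⟨∑ u, k u * G u, IsIntegral.sum _ fun u _ => (isIntegral_int _).mul (hI u), rfl⟩, ?_⟩
  have h1 : ∑ u, (π u : ℂ) * ((π u : ℂ) ^ (2 ^ j - 1) * G u) = Nat.card X * α := by
    have h2 : ∀ x, ∑ u, extendByZero P.1 (fun _ => 1) (x * u * x⁻¹) * ((π u : ℂ) ^ (2 ^ j - 1) * G u) =
        Nat.card P.1 * α := fun x => by
      rw [← e, ← Finset.sum_congr rfl fun (n : P.1) _ => one_mul ((π n : ℂ) ^ (2 ^ j - 1) * G n),
        ← sum_extendByZero_mul P.1 (fun _ => 1) fun u => (π u : ℂ) ^ (2 ^ j - 1) * G u]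
      refine Fintype.sum_bijective _ (tw_bij s x) _ _ fun u => ?_
      rw [htw, hG]
      congr 1
      rcases Int.units_eq_one_or (s x) with h | h
      · simp [h]
      · classical
        simp only [h, extendByZero_eq_dite, Units.val_neg, Units.val_one, _root_.zpow_neg, zpow_one]
        rw [show x * u⁻¹ * x⁻¹ = (x * u * x⁻¹)⁻¹ by group]
        simp only [inv_mem_iff]
    rw [Finset.sum_congr rfl fun u _ => congrArg (· * ((π u : ℂ) ^ (2 ^ j - 1) * G u)) (hind u)]
    simp only [mul_assoc (Nat.card P.1 : ℂ)⁻¹, Finset.sum_mul]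
    rw [← Finset.mul_sum, Finset.sum_comm, Finset.sum_congr rfl fun x _ => h2 x]
    have : (Nat.card P.1 : ℂ) ≠ 0 := by simp
    simp only [Finset.sum_const, Finset.card_univ, nsmul_eq_mul, Nat.card_eq_fintype_card (α := X)]
    field_simp
  rw [← h1, Finset.mul_sum, ← Finset.sum_add_distrib]
  refine Finset.sum_congr rfl fun u _ => ?_
  rw [← mul_assoc, ← pow_succ', Nat.sub_add_cancel Nat.one_le_two_pow, ← mul_assoc, ← add_mul, ← hk]
  simp

/-- the square of the absolute value of `ψ` on the kernel of `s` -/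
noncomputable def FF (s : X →* ℤˣ) (ψ : X → ℂ) (g : X) : ℂ := if s g = 1 then ψ g * conj (ψ g) else 0

variable {ψ : X → ℂ}

theorem FF_int (h : Bad s ψ) (g : X) : IsIntegral ℤ (FF s ψ g) := by
  unfold FF
  split_ifs with hg
  · have := isIntegral_char h.1.ch ⟨g, hg⟩
    exact this.mul (isIntegral_conj this)
  · exact isIntegral_zero

theorem FF_tw (h : Bad s ψ) (x g : X) : FF s ψ (x * g ^ (s x : ℤ) * x⁻¹) = FF s ψ g := by
  unfold FF
  rcases Int.units_eq_one_or (s x) with hx | hx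
  · simp only [hx, Units.val_one, zpow_one, s_conj]
    split_ifs with hg
    · have : ψ (x * g * x⁻¹) = ψ g := isClassFunction_of_isCharacter h.1.ch ⟨g, hg⟩ ⟨x, hx⟩
      rw [this]
    · rfl
  · simp only [hx, Units.val_neg, Units.val_one, _root_.zpow_neg, zpow_one, s_conj, s_inv]
    split_ifs with hg
    · rw [h.inv hx hg]
    · rfl

theorem FF_central (h : Bad s ψ) {a : X} (ha : s a = 1) (hC : Cs s a = ⊤) (g : X) : FF s ψ (a * g) = FF s ψ g := by
  unfold FF
  simp only [map_mul, ha, one_mul]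
  split_ifs with hg
  · obtain ⟨m, α, hs, hα⟩ := exists_sch h.1
    obtain ⟨c, hc⟩ := hs.2 (α ⟨a, ha⟩) fun y => by
      have h1 : y.1 * a * y.1⁻¹ = a ^ (s y : ℤ) := mem_Cs.1 (hC ▸ Subgroup.mem_top y.1)
      rw [show s y = 1 from y.2, Units.val_one, zpow_one, mul_inv_eq_iff_eq_mul] at h1
      rw [← map_mul, ← map_mul]
      exact congrArg α (Subtype.ext h1.symm)
    have h1 : c ^ orderOf a = 1 := by
      have h2 : α ⟨a, ha⟩ ^ orderOf a = 1 := by
        rw [← map_pow, ← map_one α]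
        exact congrArg α (Subtype.ext (pow_orderOf_eq_one a))
      obtain ⟨i⟩ := hs.1
      simpa [hc, smul_pow] using congrFun (congrFun h2 i) i
    have h2 : c * conj c = 1 := by
      rw [Complex.mul_conj, Complex.normSq_eq_norm_sq, Complex.norm_eq_one_of_pow_eq_one h1 (orderOf_pos a).ne']
      simp
    have h3 : ψ (a * g) = c * ψ g := by
      have := hα (⟨a, ha⟩ * ⟨g, hg⟩)
      rw [map_mul, hc, smul_mul_assoc, one_mul, trace_smul, hα] at this
      exact this.symm
    rw [h3, map_mul]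
    linear_combination (ψ g * conj (ψ g)) * h2
  · rfl

theorem loc (h : Bad s ψ) {Y : Type*} [Group Y] [Finite Y] {s' : Y →* ℤˣ} (f : Y →* X) (hf : ∀ y, s (f y) = s' y)
    (hY : Good s') {N : Type*} [Group N] [Fintype N] (i : N →* Y) {a : Y} (ha : s' a = 1)
    (hi : ∀ n, i n ∈ Cs s' a) {w : N → ℂ} (hw : IsCharacter N w) (hw' : ∀ n, w n⁻¹ = w n) :
    ∑ n, w n * FF s ψ (f (a * i n)) ∈ mul (Nat.card N) := by
  classical
  have := Fintype.ofFinite s'.ker
  set K := (s'.comp i).ker with hK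
  let i' : K →* s'.ker := (i.comp K.subtype).codRestrict _ fun n => n.2
  let b : s'.ker := ⟨a, ha⟩
  have hb : ∀ n, Commute b (i' n) := fun n => by
    have h1 := mem_Cs.1 (hi n)
    rw [show s' (i n) = 1 from n.2, Units.val_one, zpow_one, mul_inv_eq_iff_eq_mul] at h1
    exact Subtype.ext h1.symm
  have hΨ : IsCharacter s'.ker fun g => ψ (f g) := h.1.ch.comp f hf
  set Ψ : s'.ker → ℂ := fun g => ψ (f g) with hΨd
  have hwK := isCharacter_restrict K hw
  have hK0 : (Nat.card K : ℂ) ≠ 0 := by simp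
  let J : (s'.ker → ℂ) → ℂ := fun φ => (Nat.card K : ℂ)⁻¹ * ∑ n : K, w n * (φ (b * i' n) * conj (Ψ (b * i' n)))
  have hJ : ∀ φ, IsCharacter s'.ker φ → IsIntegral ℤ (J φ) := fun φ hφ =>
    int_avg (isCharacter_mul hφ (isCharacter_conj hΨ)) i' hb hwK
  have e1 : ∑ n, w n * FF s ψ (f (a * i n)) = Nat.card K * J Ψ := by
    rw [mul_inv_cancel_left₀ hK0]
    refine Eq.trans ?_ (sum_sub K fun n => w n * (ψ (f (a * i n)) * conj (ψ (f (a * i n))))).symm
    refine Finset.sum_congr rfl fun n _ => ?_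
    simp only [FF, hf, map_mul s', ha, one_mul, mul_ite, mul_zero]
    exact if_congr Iff.rfl rfl rfl
  rw [e1]
  by_cases h0 : ∀ n, s' (i n) = 1
  · refine ⟨_, hJ Ψ hΨ, ?_⟩
    rw [show K = ⊤ from top_unique fun n _ => h0 n, Subgroup.card_top]
  obtain ⟨t, ht⟩ := not_forall.1 h0
  have ht' := s_ne.1 ht
  let c : s'.ker ≃ s'.ker := (Equiv.inv _).trans (MulAut.conjNormal (i t)).toEquiv
  have hc : ∀ g, (c g : Y) = i t * (g : Y)⁻¹ * (i t)⁻¹ := fun g => rfl
  have hcΨ : ∀ g, Ψ (c g) = Ψ g := fun g => by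
    simp only [hΨd, hc, map_mul, map_inv]
    exact h.inv ((hf _).trans ht') ((hf _).trans g.2)
  let T : IrrCharacter s'.ker → IrrCharacter s'.ker := fun φ =>
    ⟨fun g => φ.1 (c g), isIrr_inv (isIrr_comp_mulEquiv (MulAut.conjNormal (i t)) φ.2)⟩
  have hTT : ∀ φ, T (T φ) = φ := fun φ => Subtype.ext (funext fun g => by
    rw [← irr_isClassFunction φ g ⟨i t * i t, s_sq s' _⟩]
    exact congrArg φ.1 (Subtype.ext (by simp only [hc, Subgroup.coe_mul, Subgroup.coe_inv]; group)))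
  obtain ⟨m, hm, e2⟩ := exists_char_eq_sum_nat hΨ
  have hmT : ∀ φ, (m (T φ) : ℂ) = m φ := fun φ => by
    rw [← hm, ← hm, classInner_def, classInner_def]
    exact congrArg _ (Fintype.sum_equiv c _ _ fun g => by rw [hcΨ])
  have hJT : ∀ φ, J (T φ) = J φ := fun φ => by
    refine congrArg ((Nat.card K : ℂ)⁻¹ * ·)
      (Fintype.sum_equiv ((Equiv.inv K).trans (MulAut.conjNormal t).toEquiv) _ _ fun n => ?_)
    have e3 : b * i' (((Equiv.inv K).trans (MulAut.conjNormal t).toEquiv) n) = c (b * i' n) := by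
      have h1 := mem_Cs.1 ((Cs s' a).inv_mem (hi t))
      rw [s_inv, ht', inv_inv] at h1
      rw [(hb n).eq]
      refine Subtype.ext ?_
      change a * i (t * (n : N)⁻¹ * t⁻¹) = i t * (i n * a)⁻¹ * (i t)⁻¹
      rw [_root_.mul_inv_rev, ← zpow_neg_one a, show (-1 : ℤ) = ((-1 : ℤˣ) : ℤ) from rfl, ← h1]
      simp [mul_assoc]
    rw [e3, hcΨ]
    congr 1
    change _ = w (t * (n : N)⁻¹ * t⁻¹)
    rw [isClassFunction_of_isCharacter hw, hw']
  have e3 : J Ψ = ∑ φ : IrrCharacter s'.ker, m φ * J φ := by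
    have e4 : ∀ g, Ψ g = ∑ φ : IrrCharacter s'.ker, m φ * φ.1 g := fun g => by
      simpa using congrFun e2 g
    simp only [J, Finset.mul_sum]
    rw [Finset.sum_comm]
    refine Finset.sum_congr rfl fun n _ => ?_
    nth_rewrite 1 [e4]
    simp only [Finset.mul_sum, Finset.sum_mul]
    exact Finset.sum_congr rfl fun φ _ => by ring
  have e4 : J Ψ ∈ mul 2 := by
    rw [e3, ← QuotientAddGroup.eq_zero_iff, ← QuotientAddGroup.mk'_apply, map_sum]
    refine Finset.sum_involution (fun φ _ => T φ) (fun φ _ => ?_) (fun φ _ h1 h2 => h1 ?_)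
      (fun _ _ => Finset.mem_univ _) fun φ _ => hTT φ
    · rw [hmT, hJT, ← map_add, QuotientAddGroup.mk'_apply, QuotientAddGroup.eq_zero_iff]
      exact ⟨_, (isIntegral_nat (m φ)).mul (hJ _ (irr_isCharacter φ)), by ring⟩
    · obtain ⟨k, hk⟩ := h.even f hf hY ht' (φ := extendByZero s'.ker φ.1)
        (by simpa [Irr, extendByZero_coe] using φ.2) fun g hg => by
          rw [extendByZero_of_mem _ _ (g := g) hg, ← congrFun (congrArg Subtype.val h2) ⟨g, hg⟩]
          exact extendByZero_coe _ _ (c ⟨g, hg⟩)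
      simp only [extendByZero_coe] at hk
      rw [QuotientAddGroup.mk'_apply, QuotientAddGroup.eq_zero_iff, ← hm, hk]
      exact ⟨_, (isIntegral_nat k).mul (hJ _ (irr_isCharacter φ)), by ring⟩
  obtain ⟨α, hα, e5⟩ := e4
  refine ⟨α, hα, ?_⟩
  rw [e5, card_eq (s := s'.comp i) ht']
  push_cast
  ring

end Tb

open Tb in
theorem tbw (h1 : ∀ a, Odd (orderOf a) → Cs s a ≠ ⊤ → GoodS s (Cs s a))
    (h2 : ∀ P : Sylow 2 X, ∃ M : Subgroup X, P.1 ≤ M ∧ GoodS s M) : Good s := by
  classical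
  refine good_of_not_bad fun ψ h => ?_
  have := Fintype.ofFinite X
  have : Fact (Nat.Prime 2) := ⟨Nat.prime_two⟩
  obtain ⟨j, m, hm, hX⟩ := Nat.exists_eq_two_pow_mul_odd (Nat.card_pos (α := X)).ne'
  have hcop : (2 ^ j).Coprime m := (Nat.coprime_two_left.2 hm).pow_left j
  obtain ⟨e, he1, he2⟩ := Nat.chineseRemainder hcop 0 1
  have he0 : 2 ^ j ∣ e := (Nat.modEq_zero_iff_dvd).1 he1
  have key : ∀ a, ((Cs s a).index : ℂ) * (∑ g, if g ^ e = a then FF s ψ g else 0) ∈ mul (2 ^ j) := by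
    intro a
    by_cases ha : a ^ m = 1
    swap
    · rw [Finset.sum_eq_zero, mul_zero]
      · exact zero_mem _
      · refine fun g _ => if_neg fun hg => ha ?_
        rw [← hg, ← pow_mul]
        exact orderOf_dvd_iff_pow_eq_one.1 ((orderOf_dvd_natCard g).trans (hX ▸ Nat.mul_dvd_mul_right he0 m))
    have ho : Odd (orderOf a) := hm.of_dvd_nat (orderOf_dvd_of_pow_eq_one ha)
    have hs := s_odd s ho
    have hae : a ^ e = a := by
      conv_rhs => rw [← pow_one a]
      exact pow_eq_pow_iff_modEq.2 (he2.of_dvd (orderOf_dvd_of_pow_eq_one ha))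
    have haC : a ∈ Cs s a := by rw [mem_Cs, hs]; simp
    have e1 : (∑ g, if g ^ e = a then FF s ψ g else 0) =
        ∑ u : Cs s a, if u ^ 2 ^ j = 1 then FF s ψ (a * u) else 0 := by
      rw [← Equiv.sum_comp (Equiv.mulLeft a)]
      refine Eq.trans (Finset.sum_congr rfl fun u _ => ?_) ((sum_sub (Cs s a) fun u =>
        if u ^ 2 ^ j = 1 then FF s ψ (a * u) else 0).symm.trans (Finset.sum_congr rfl fun u _ => by
          simp only [Subtype.ext_iff, Subgroup.coe_pow, Subgroup.coe_one]))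
      by_cases hu : s u = 1
      swap
      · simp [FF, hs, hu]
      rw [← ite_and]
      refine if_congr ?_ rfl rfl
      rw [mem_Cs, hu, Units.val_one, zpow_one, mul_inv_eq_iff_eq_mul, Equiv.coe_mulLeft]
      constructor
      · intro h3
        have h4 : Commute a (a * u) := by
          nth_rewrite 1 [← h3]
          exact (Commute.refl _).pow_left e
        have h5 : Commute a u := by simpa using (Commute.refl a).inv_right.mul_right h4
        refine ⟨h5.symm, ?_⟩
        have h6 : (a * u) ^ (2 ^ j * e) = (a * u) ^ (2 ^ j * 1) :=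
          pow_eq_pow_iff_modEq.2 ((he2.mul_left' (2 ^ j)).of_dvd (hX ▸ orderOf_dvd_natCard _))
        rw [mul_comm (2 ^ j), pow_mul, h3, mul_one, h5.mul_pow] at h6
        exact mul_eq_left.1 h6.symm
      · rintro ⟨h3, h4⟩
        obtain ⟨k, rfl⟩ := he0
        rw [(show Commute a u from h3.symm).mul_pow, hae, pow_mul, h4, one_pow, mul_one]
    obtain ⟨P⟩ : Nonempty (Sylow 2 (Cs s a)) := inferInstance
    have hj : Nat.card P.1 ∣ 2 ^ j := by
      obtain ⟨k, hk⟩ := IsPGroup.iff_card.1 P.2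
      refine Nat.Coprime.dvd_of_dvd_mul_right (hk ▸ (Nat.coprime_two_left.2 hm).pow_left k) ?_
      exact hX ▸ (Subgroup.card_subgroup_dvd_card _).trans (Subgroup.card_subgroup_dvd_card _)
    obtain ⟨_, ⟨α, hα, rfl⟩, _, ⟨β, hβ, rfl⟩, e2⟩ := frob (s := s.comp (Cs s a).subtype)
      (G := fun u => FF s ψ (a * u)) (fun x u => by
        by_cases hu : s u = 1
        · rw [← FF_tw h x (a * u)]
          congr 1
          have h3 := mem_Cs.1 u.2
          rw [hu, Units.val_one, zpow_one, mul_inv_eq_iff_eq_mul] at h3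
          have h4 := mem_Cs.1 x⁻¹.2
          rw [Subgroup.coe_inv, s_inv, inv_inv] at h4
          rw [(show Commute a u from h3.symm).mul_zpow, ← h4]
          simp [mul_assoc]
        · rcases Int.units_eq_one_or (s x) with h3 | h3 <;> simp [FF, hs, hu, h3])
      (fun u => FF_int h _) P (fun w hw hw' => by
        by_cases hC : Cs s a = ⊤
        · obtain ⟨Q, hQ⟩ := (P.2.map (Cs s a).subtype).exists_le_sylow
          obtain ⟨M, hM, gM⟩ := h2 Q
          simpa [FF_central h hs hC] using loc h M.subtype (fun _ => rfl) gM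
            (((Cs s a).subtype.comp P.1.subtype).codRestrict M fun n => hM (hQ ⟨n, n.2, rfl⟩)) (a := 1) (map_one _)
            (fun n => by simp [mem_Cs]) hw hw'
        · exact loc h (Cs s a).subtype (fun _ => rfl) (h1 a ho hC) P.1.subtype (a := ⟨a, haC⟩) hs
            (fun n => Subtype.ext (by simpa using mem_Cs.1 n.1.2)) hw hw') hj
    refine ⟨m * α + (Cs s a).index * β, ((isIntegral_nat m).mul hα).add ((isIntegral_nat _).mul hβ), ?_⟩
    have e3 := congrArg (Nat.cast : ℕ → ℂ) ((Cs s a).index_mul_card.trans hX)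
    push_cast at e3
    rw [e1, e2]
    linear_combination α * e3
  have h3 : (∑ a, ∑ g, if g ^ e = a then FF s ψ g else 0) ∈ mul (2 ^ j) := by
    let _ := act s
    refine orbit_sum (G := X) _ _ (fun x a => ?_) fun a => ?_
    · refine (Fintype.sum_bijective _ (tw_bij s x) _ _ fun g => ?_).symm
      rw [FF_tw h]
      refine if_congr ?_ rfl rfl
      rw [conj_pow, ← _root_.zpow_natCast (g ^ _), ← _root_.zpow_mul, mul_comm (s x : ℤ), _root_.zpow_mul,
        _root_.zpow_natCast]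
      exact (tw_bij s x).1.eq_iff.symm
    · rw [show MulAction.stabilizer X a = Cs s a from Subgroup.ext fun x => mem_Cs'.symm]
      exact key a
  rw [Finset.sum_comm] at h3
  simp only [Finset.sum_ite_eq, Finset.mem_univ, if_true] at h3
  obtain ⟨α, hα, e1⟩ := h3
  have e2 := classInner_irr_self h.1
  rw [classInner_def, inv_mul_eq_one₀ (Nat.cast_ne_zero.2 Nat.card_pos.ne'), sum_sub s.ker fun g => ψ g * conj (ψ g)] at e2
  obtain ⟨τ, hτ⟩ := h.exists_neg
  have e3 := congrArg (Nat.cast : ℕ → ℂ) ((card_eq hτ).symm.trans hX)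
  push_cast at e3
  have e4 : α = (m : ℂ) / (2 : ℕ) := by
    have e5 : (Nat.card s.ker : ℂ) = 2 ^ j * α := e2.trans (e1 ▸ Finset.sum_congr rfl fun g _ => if_congr Iff.rfl rfl rfl)
    rw [e5, mul_left_comm, mul_right_inj' (by simp)] at e3
    rw [← e3]
    simp
  exact hm.not_two_dvd_nat (nat_dvd_of_isIntegral_div two_ne_zero (e4 ▸ hα))

theorem tbwS {H : Subgroup X} (h1 : ∀ a ∈ H, Odd (orderOf a) → ¬ H ≤ Cs s a → GoodS s (H ⊓ Cs s a))
    (h2 : ∀ P ≤ H, IsPGroup 2 P → ∃ M, P ≤ M ∧ M ≤ H ∧ GoodS s M) : GoodS s H := by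
  have e : ∀ a : H, Cs (s.comp H.subtype) a = (H ⊓ Cs s a).subgroupOf H := fun a => by
    ext x
    rw [Subgroup.inf_subgroupOf_left, Subgroup.mem_subgroupOf, mem_Cs, mem_Cs, Subtype.ext_iff]
    simp
  refine tbw (fun a ho hC => ?_) fun P => ?_
  · rw [e] at hC ⊢
    refine (h1 a a.2 (by rwa [Subgroup.orderOf_coe]) fun hle => hC ?_).subgroupOf inf_le_left
    exact Subgroup.subgroupOf_eq_top.2 (le_inf le_rfl hle)
  · obtain ⟨M, h3, h4, h5⟩ := h2 (P.1.map H.subtype) (Subgroup.map_subtype_le _) (P.2.map _)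
    exact ⟨M.subgroupOf H, fun x hx => h3 ⟨x, hx, rfl⟩, h5.subgroupOf h4⟩

end CfsgLib.FsTw
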