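import Cfsg.Agent.Lib.FsTw.Sing
import Cfsg.Agent.Lib.FsTw.Repl
import Cfsg.Agent.Lib.FsTw.Tbw
import Cfsg.Agent.Lib.Orth.Omega

/-!
Vector stabilisers in orthogonal groups of characteristic two have no quaternionic characters.
-/

set_option autoImplicit false
set_option linter.unusedSectionVars false

namespace CfsgLib.FsTw

open QuadraticMap CfsgLib.Orth

universe u

section
variable {V R : Type u} [AddCommGroup V] [Module (ZMod 2) V] [CommRing R] [Algebra (ZMod 2) R]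
  [Module R V] [IsScalarTower (ZMod 2) R V] [Finite V] {Q : QuadraticForm (ZMod 2) V}
  {σ : R →+* R} {t : R →+ ZMod 2} {h : V → V → R} {v y : V}

namespace Dat

variable (D : Dat Q σ)

theorem base (ha : Adm Q σ v) (h0 : D.perp (R ∙ v) ≤ R ∙ v) : GoodS (sg Q) (D.Fam v 0) := by
  refine goodS_of_sq fun g ⟨h1, h2, _⟩ _ => Prod.ext (OG.ext fun x => ?_) (Int.units_mul_self _)
  have h3 : ∀ z ∈ R ∙ v, g.1.1 z = z := fun z hz => by
    obtain ⟨r, rfl⟩ := Submodule.mem_span_singleton.1 hz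
    rw [h1, h2, ha.tw_smul]
  have h4 := h3 (g.1.1 x + x) (h0 fun z hz => by
    rw [polar_add_left, ← OG.map_polar g.1 x z, h3 z hz, add_self_V])
  rw [map_add, add_comm (g.1.1 x) x, add_left_inj] at h4
  exact h4

theorem sylow (h0 : ¬ D.perp (R ∙ v) ≤ R ∙ v) {P : Subgroup (OG Q × ℤˣ)} (hP : P ≤ D.Fam v 0)
    (h2 : IsPGroup 2 P) : ∃ y ∈ D.perp (R ∙ v), y ∉ R ∙ v ∧ P ≤ D.Fam v y := by
  have h3 : ∀ g : P, ∀ z ∈ R ∙ v, g.1.1.1 z ∈ R ∙ v := fun g z hz => by
    obtain ⟨r, rfl⟩ := Submodule.mem_span_singleton.1 hz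
    exact Submodule.mem_span_singleton.2 ⟨_, by rw [(hP g.2).1, (hP g.2).2.1]⟩
  let A := (D.perp (R ∙ v)).toAddSubgroup
  let B := (R ∙ v).toAddSubgroup.addSubgroupOf A
  let φ : P → A →+ A := fun g => AddMonoidHom.mk' (fun x => ⟨g.1.1.1 x, fun z hz => by
    rw [OG.polar_apply_left]; exact x.2 _ (h3 g⁻¹ z hz)⟩) fun _ _ => Subtype.ext (map_add _ _ _)
  let : MulAction P (A ⧸ B) :=
    { smul := fun g => QuotientAddGroup.map B B (φ g) fun x hx => h3 g x hx
      one_smul := fun x => QuotientAddGroup.induction_on x fun _ => rfl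
      mul_smul := fun _ _ x => QuotientAddGroup.induction_on x fun _ => rfl }
  obtain ⟨x, x1, x2⟩ := SetLike.not_le_iff_exists.1 h0
  have h4 : addOrderOf ((⟨x, x1⟩ : A) : A ⧸ B) = 2 := addOrderOf_eq_prime
    (by rw [two_nsmul, ← QuotientAddGroup.mk_add, QuotientAddGroup.eq_zero_iff]
        exact (congrArg (· ∈ R ∙ v) (add_self_V x)).mpr (zero_mem _))
    (mt (QuotientAddGroup.eq_zero_iff _).1 x2)
  obtain ⟨b, b1, b2⟩ := h2.exists_fixed_point_of_prime_dvd_card_of_fixed_point (A ⧸ B)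
    (h4 ▸ addOrderOf_dvd_natCard _) (a := 0) fun g => map_zero (QuotientAddGroup.map B B (φ g) _)
  obtain ⟨y, rfl⟩ := QuotientAddGroup.mk_surjective b
  refine ⟨y, y.2, fun hy => b2 ((QuotientAddGroup.eq_zero_iff _).2 hy).symm,
    fun g hg => ⟨(hP hg).1, (hP hg).2.1, ?_⟩⟩
  obtain ⟨r, hr⟩ := Submodule.mem_span_singleton.1 (QuotientAddGroup.eq.1 (b1 ⟨g, hg⟩).symm)
  exact ⟨r, by rw [hr]; exact (add_neg_cancel_left _ _).symm⟩

theorem fam_of_mem (ha : Adm Q σ v) (hy : y ∈ R ∙ v) : D.Fam v y = D.Fam v 0 := by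
  obtain ⟨r, rfl⟩ := Submodule.mem_span_singleton.1 hy
  exact Subgroup.ext fun g => ⟨fun h => ⟨h.1, h.2.1, 0, by simp⟩,
    fun h => ⟨h.1, h.2.1, 0, by rw [h.1, h.2.1, ha.tw_smul]; simp⟩⟩

theorem nondeg (ih : D.IH) (ha : Adm Q σ v) (hP : Nd Q (Submodule.span R {v, y})) (hy : y ≠ 0) :
    GoodS (sg Q) (D.Fam v y) := by
  have u1 : v ∈ Submodule.span R {v, y} := Submodule.subset_span (by simp)
  have u2 : y ∈ Submodule.span R {v, y} := Submodule.subset_span (by simp)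
  rw [← inf_eq_left.2 (show D.Fam v y ≤ D.Fam 0 0 from fun g hg => ⟨hg.1, map_zero _, 0, by simp⟩)]
  refine D.dec_sq (K := D.Fam v y) ih hP (fun e => hy (by rwa [e] at u2)) (fun g hg => hg.1) ?_ ?_ ?_ (zero_mem _)
    (zero_mem _) adm_zero
  · rintro g ⟨h1, h2, r, h3⟩ x hx
    obtain ⟨b, c, rfl⟩ := Submodule.mem_span_pair.1 hx
    rw [map_add, h1, h1, h2, h3]
    exact add_mem (Submodule.smul_mem _ _ u1)
      (Submodule.smul_mem _ _ (add_mem u2 (Submodule.smul_mem _ _ u1)))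
  · rintro g ⟨h1, h2, r, h3⟩ x hx
    obtain ⟨b, c, rfl⟩ := Submodule.mem_span_pair.1 hx
    simp only [map_add, h1 _, h2, h3, D.tw_tw, ha.tw_smul, add_assoc, add_self_V, add_zero]
  · rintro g ⟨-, h2, r, h3⟩ g' hg' - e
    exact ⟨hg', (e _ u1).trans h2, r, (e _ u2).trans h3⟩

variable [Finite R] (S : Smp V σ)
include D S

theorem id_of_adm (ha : Adm Q σ v) (hv : v ≠ 0) (r : R) : σ r = r := by
  by_contra hr
  refine hv ((D.unit_trace S (x := r) fun e => hr ?_).smul_left_cancel.1 ?_)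
  · linear_combination e - add_self_R r
  · rw [add_smul, ha.1, add_self_V, smul_zero]

variable (H : Herm Q σ t h) (ih : D.IH)
include H ih

theorem case_perp (ha : Adm Q σ v) (hv : v ≠ 0) (h1 : h y v = 0) (h2 : y ∉ R ∙ v) :
    GoodS (sg Q) (D.Fam v y) := by
  have hσ := D.id_of_adm S ha hv
  obtain ⟨a, h3⟩ := D.exists_c S H y
  obtain ⟨b, h4⟩ := D.exists_c S H v
  obtain ⟨m, hm⟩ := ((S.fix b (hσ b)).resolve_left fun e =>
    hv (by simpa using ha.2 1 fun r => by simp [h4, e])).exists_right_inv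
  obtain ⟨c, hc⟩ := D.sq (a * m)
  have h5 : ∀ r : R, Q (r • (y + c • v)) = 0 := fun r => by
    rw [smul_add, Q_add, smul_smul, h3, h4, H.polar_smul D, h1, mul_zero, map_zero, add_zero,
      ← map_add, hσ, hσ, show a * (r * r) + b * (r * c * (r * c)) = 0 by
        linear_combination add_self_R (a * r * r) - b * r * r * hc + a * r * r * hm, map_zero]
  have h6 : h v (y + c • v) = 0 := by
    rw [H.add_right, H.swap_zero D h1, H.smul_right D, H.eq_zero_iff.2 fun r => by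
      simpa using D.polar_of_id hσ r 1 v]; simp
  have h7 : D.Fam v y = D.St {y + c • v, v} := by
    refine Subgroup.ext fun g => ⟨?_, fun ⟨g1, g2⟩ => ⟨g1, g2 v (by simp), 0, ?_⟩⟩
    · rintro ⟨g1, g2, r, g3⟩
      have g4 : g.1.1 (y + c • v) = y + c • v + r • v := by
        rw [map_add, g3, g1, g2, ha.tw_smul, add_right_comm]
      have g5 := ha.2 r fun s => by
        have := h5 (tw σ g.2 s)
        rwa [← OG.map_Q g.1, g1, D.tw_tw, g4, smul_add, Q_add, h5, H.polar_smul D, H.smul_right D,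
          H.swap_zero D h6, mul_zero, mul_zero, map_zero, add_zero, zero_add] at this
      exact ⟨g1, by rintro _ (rfl | rfl); exacts [by rw [g4, g5, add_zero], g2]⟩
    · simpa [g1 _, g2 v, ha.tw_smul] using g2 (y + c • v) (by simp)
  exact h7 ▸ D.sing S H ih ha (fun e => h2 (by
    rw [add_eq_zero_iff_eq_neg.1 e]
    exact neg_mem (Submodule.mem_span_singleton.2 ⟨c, rfl⟩))) h5 h6

theorem case_ne (ha : Adm Q σ v) (hv : v ≠ 0) (h1 : h y v ≠ 0) : GoodS (sg Q) (D.Fam v y) := by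
  have hσ := D.id_of_adm S ha hv
  have h2 : ∀ x, h x x = 0 := fun x => H.eq_zero_iff.2 fun r => by
    simpa using D.polar_of_id hσ r 1 x
  have h3 := (S.fix _ (hσ _)).resolve_left h1
  refine D.nondeg ih ha (fun x hx e => ?_) fun e => h1 (by rw [e, H.zero_left])
  obtain ⟨a, b, rfl⟩ := Submodule.mem_span_pair.1 hx
  have := (H.mem_perp_pair D).1 e
  simp only [H.add_left, H.smul_left, h2, H.swap D y v, hσ, mul_zero, add_zero, zero_add,
    h3.mul_left_eq_zero] at this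
  simp [this.1, this.2]

theorem case_zero (hy : y ≠ 0) (h0 : Adm Q σ y → GoodS (sg Q) (D.Fam y 0)) :
    GoodS (sg Q) (D.Fam 0 y) := by
  by_cases h1 : ∀ r : R, Q (r • y) = 0
  · have : D.Fam 0 y = D.St {y, 0} := Subgroup.ext fun g => by simp [mem_Fam, mem_St]
    exact this ▸ D.sing S H ih adm_zero hy h1 (H.zero_left _)
  by_cases h2 : h y y = 0
  · have hσ := (D.dich S).resolve_right fun ⟨a, a1, a2⟩ => h1 fun r => by
      obtain ⟨b, hb⟩ := a2.exists_right_inv
      rw [show r = a * (b * r) + b * r by linear_combination -r * hb, add_smul, Q_add,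
        H.polar_smul D, mul_smul, D.Q_norm a1, add_self_V, h2, mul_zero, map_zero, add_zero]
    have : D.Fam 0 y = D.Fam y 0 := Subgroup.ext fun g => by
      simp only [mem_Fam, map_zero, smul_zero, add_zero, exists_const, true_and, zero_add]
      exact and_congr_right fun _ => ⟨fun e => ⟨e, 0, (zero_smul _ _).symm⟩, fun e => e.1⟩
    refine this ▸ h0 ⟨fun r => by rw [hσ], fun r hr => ?_⟩
    rcases S.fix r (hσ r) with rfl | e
    · exact zero_smul _ _
    · obtain ⟨b, hb⟩ := e.exists_left_inv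
      exact (h1 fun s => by simpa [smul_smul, mul_assoc, hb] using hr (s * b)).elim
  have h3 := (S.fix _ (H.swap D y y).symm).resolve_left h2
  refine D.nondeg ih adm_zero (fun x hx e => ?_) hy
  obtain ⟨a, b, rfl⟩ := Submodule.mem_span_pair.1 hx
  have := ((H.mem_perp_pair D).1 e).2
  rw [smul_zero, zero_add, H.smul_left, h3.mul_left_eq_zero] at this
  simp [this]

end Dat

/-- a property of all simple rings of operators -/
def AllS (Q : QuadraticForm (ZMod 2) V) (p : ∀ (R : Type u) [CommRing R] [Algebra (ZMod 2) R]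
    [Module R V] [IsScalarTower (ZMod 2) R V] (σ : R →+* R), Dat Q σ → Prop) : Prop :=
  ∀ (R : Type u) [CommRing R] [Algebra (ZMod 2) R] [Module R V] [IsScalarTower (ZMod 2) R V]
    [Finite R] (σ : R →+* R) (D : Dat Q σ), Smp V σ → p R σ D

/-- the induction hypothesis for all rings of operators -/
def AllIH (Q : QuadraticForm (ZMod 2) V) : Prop :=
  ∀ (R : Type u) [CommRing R] [Algebra (ZMod 2) R] [Module R V] [IsScalarTower (ZMod 2) R V]
    (σ : R →+* R) (D : Dat Q σ), D.IH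

theorem Dat.red (D : Dat Q σ) (ih : AllIH Q) {a : OG Q × ℤˣ} (ha : a ∈ D.Fam v 0)
    (ho : Odd (orderOf a)) (hv : Adm Q σ v) (H : AllS Q fun _ _ _ _ _ σ' D' => Adm Q σ' v →
      D'.Fam v y = D.Fam v y ⊓ Cs (sg Q) a → GoodS (sg Q) (D'.Fam v y)) :
    GoodS (sg Q) (D.Fam v y ⊓ Cs (sg Q) a) := by
  obtain ⟨a, δ⟩ := a
  obtain rfl : δ = 1 := s_odd (sg Q) ho
  obtain ⟨R', _, _, _, _, σ', D', h1, h2, h3⟩ := D.repl ha.1 (by simpa [Prod.orderOf_mk] using ho)
  obtain ⟨h4, h5⟩ := h3 v ha.2.1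
  have h6 : D'.Fam v y = D.Fam v y ⊓ Cs (sg Q) (a, 1) := Subgroup.ext fun g => by
    simp only [Subgroup.mem_inf, Dat.mem_Fam, h2, ← sub_eq_iff_eq_add', h5]
    tauto
  have := D'.finite h1
  rcases D'.idem_or_smp h1 with ⟨e, e1, e2, e3, e4⟩ | S
  · exact h6 ▸ D'.dec_idem (ih _ _ D') e1 e2 e3 e4 (h4 hv) y
  · exact h6 ▸ H R' σ' D' S (h4 hv) h6

theorem t2 (ih : AllIH Q) (hy : AllS Q fun R _ _ _ _ σ D => Adm Q σ v →
    ∀ y ∈ D.perp (R ∙ v), y ∉ R ∙ v → GoodS (sg Q) (D.Fam v y)) :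
    AllS Q fun _ _ _ _ _ σ D => Adm Q σ v → GoodS (sg Q) (D.Fam v 0) := by
  suffices ∀ n, AllS Q fun _ _ _ _ _ σ D => Nat.card (D.Fam v 0) = n → Adm Q σ v →
    GoodS (sg Q) (D.Fam v 0) from fun R _ _ _ _ _ σ D S => this _ R σ D S rfl
  intro n
  induction n using Nat.strong_induction_on with
  | _ n hn =>
    intro R _ _ _ _ _ σ D S e ha
    by_cases h0 : D.perp (R ∙ v) ≤ R ∙ v
    · exact D.base ha h0
    refine tbwS (fun a a1 a2 a3 => D.red ih a1 a2 ha fun R' _ _ _ _ _ σ' D' S' ha' e' =>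
      hn _ ?_ R' σ' D' S' rfl ha') fun P P1 P2 => ?_
    · rw [e', ← e]
      exact Set.ncard_lt_ncard (SetLike.coe_ssubset_coe.2 (inf_lt_left.2 a3))
    · obtain ⟨y, y1, y2, y3⟩ := D.sylow h0 P1 P2
      exact ⟨_, y3, fun g hg => ⟨hg.1, hg.2.1, 0, by simp⟩, hy R σ D S ha y y1 y2⟩

theorem Dat.good_step (D : Dat Q σ) (ih : AllIH Q) (ha : Adm Q σ v) (y : V) :
    GoodS (sg Q) (D.Fam v y) := by
  rcases subsingleton_or_nontrivial V with _ | _
  · exact goodS_of_sq fun g _ _ => Prod.ext (OG.ext fun _ => Subsingleton.elim _ _)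
      (Int.units_mul_self _)
  have h1 : ∀ v : V, v ≠ 0 → AllS Q fun R _ _ _ _ σ D => Adm Q σ v →
      ∀ y ∈ D.perp (R ∙ v), y ∉ R ∙ v → GoodS (sg Q) (D.Fam v y) :=
    fun v hv R _ _ _ _ _ σ D S ha y y1 y2 => by
      have := Module.nontrivial R V
      obtain ⟨t, h, H⟩ := D.exists_herm S
      exact D.case_perp S H (ih _ _ D) ha hv ((H.mem_perp_span D).1 y1) y2
  have h2 : ∀ y : V, y ≠ 0 → AllS Q fun R _ _ _ _ σ D => GoodS (sg Q) (D.Fam 0 y) :=
    fun y hy R _ _ _ _ _ σ D S => by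
      have := Module.nontrivial R V
      obtain ⟨t, h, H⟩ := D.exists_herm S
      exact D.case_zero S H (ih _ _ D) hy (t2 ih (h1 y hy) R σ D S)
  rw [← inf_eq_left.2 (show D.Fam v y ≤ Cs (sg Q) 1 from fun g _ => by simp [mem_Cs])]
  refine D.red ih (one_mem _) (by simp) ha fun R _ _ _ _ _ σ D S ha _ => ?_
  by_cases hv : v = 0
  · subst hv
    by_cases hy : y = 0
    · exact hy ▸ t2 ih (fun R _ _ _ _ _ σ D S _ y _ y2 =>
        h2 y (fun e => y2 (by simp [e])) R σ D S) R σ D S ha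
    · exact h2 y hy R σ D S
  have := Module.nontrivial R V
  obtain ⟨t, h, H⟩ := D.exists_herm S
  by_cases h3 : h y v = 0
  · by_cases h4 : y ∈ R ∙ v
    · exact D.fam_of_mem ha h4 ▸ t2 ih (h1 v hv) R σ D S ha
    · exact D.case_perp S H (ih _ _ D) ha hv h3 h4
  · exact D.case_ne S H (ih _ _ D) ha hv h3

end

theorem allIH (n : ℕ) : ∀ (V : Type u) [AddCommGroup V] [Module (ZMod 2) V] [Finite V]
    (Q : QuadraticForm (ZMod 2) V), Nat.card V = n → AllIH Q := by
  induction n using Nat.strong_induction_on with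
  | _ n hn =>
    intro V _ _ _ Q e R _ _ _ _ σ D W hW h v y ha
    exact (D.res hW).good_step (hn _ (e ▸ Finite.card_subtype_lt
      (not_forall.1 (mt Submodule.eq_top_iff'.2 h)).choose_spec) W _ rfl) ha y

theorem nq_stab {F V : Type u} [Field F] [Finite F] [CharP F 2] [AddCommGroup V] [Module F V]
    [Finite V] {Q : QuadraticForm F V} (hQ : (polarBilin Q).Nondegenerate) {v : V}
    (hv : v = 0 ∨ Q v ≠ 0) : NQ (MulAction.stabilizer (OG Q) v) := by
  let := ZMod.algebra F 2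
  let := Module.compHom V (algebraMap (ZMod 2) F)
  have : IsScalarTower (ZMod 2) F V := ⟨fun a b c => by rw [Algebra.smul_def, mul_smul]; rfl⟩
  obtain ⟨l, hl⟩ := not_forall.1 (mt (Module.forall_dual_apply_eq_zero_iff (ZMod 2) (1 : F)).1
    one_ne_zero)
  have sq := isSquare_of_charTwo (F := F) CharTwo.two_eq_zero
  have h1 : ∀ c : F, (∀ r, l (r * r * c) = 0) → c = 0 := fun c hc => by
    by_contra h0
    obtain ⟨r, hr⟩ := sq c⁻¹
    exact hl (by simpa [← hr, h0] using hc r)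
  have h2 : ∀ x y, polar (l.compQuadraticMap' Q) x y = l (polar Q x y) := fun x y => by
    simp [polar]
  have D : Dat (l.compQuadraticMap' Q) (RingHom.id F) :=
    ⟨fun _ => rfl, nondegenerate_of_polar fun x hx => eq_zero_of_polar hQ fun y => h1 _ fun r => by
      rw [← hx ((r * r) • y), h2, polar_smul_right, smul_eq_mul],
      fun r x y => by simp [h2], fun _ _ => rfl, sq, fun _ _ _ => rfl⟩
  have h3 : ∀ δ r, tw (RingHom.id F) δ r = r := fun δ r => tw_of_fix rfl δ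
  have h4 := D.good_step (allIH _ V _ rfl) (v := v) ⟨fun _ => rfl, fun r hr => by
    have := h1 (Q (r • v)) fun t => by rw [← Q_smul]; exact hr t
    rcases hv with rfl | hv
    · exact smul_zero r
    · rw [Q_smul, mul_eq_zero, mul_self_eq_zero] at this
      rw [this.resolve_right hv, zero_smul]⟩ 0
  have : Finite (V ≃ₗ[F] V) := DFunLike.finite _
  refine Good.nq (Good.of_surj h4
    { toFun := fun g => (⟨⟨{ g.1.1.1 with map_smul' := fun r x => (g.2.1 r x).trans (by rw [h3]; rfl) },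
        fun x => sub_eq_zero.1 (h1 _ fun r => ?_)⟩, g.2.2.1⟩, g.1.2)
      map_one' := rfl
      map_mul' := fun _ _ => rfl } (fun g => ⟨⟨(⟨g.1.1.1.restrictScalars (ZMod 2),
        fun x => congrArg l (g.1.1.2 x)⟩, g.2), fun r x => by rw [h3]; exact map_smul g.1.1.1 r x,
        g.1.2, 0, by simp⟩, rfl⟩) fun _ => rfl)
  have h5 := OG.map_Q g.1.1 (r • x)
  rw [g.2.1, h3] at h5
  rw [mul_sub, map_sub, ← Q_smul, ← Q_smul, sub_eq_zero]
  exact h5

end CfsgLib.FsTw
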