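import Cfsg.Agent.Lib.FsTw.Ind
import Cfsg.Agent.Lib.FsTw.Top
import Cfsg.Agent.Lib.FsTw.Real
import Cfsg.Agent.Lib.Orth.Matrix

/-!
Indicators of the orthogonal groups of characteristic two and of their commutator subgroups.
-/

set_option autoImplicit false

namespace CfsgLib.FsTw

open Cfsg CfsgLib.Char QuadraticMap CfsgLib.Orth

variable {F : Type*} [Field F] [Finite F] [CharP F 2] {ι : Type} [Fintype ι] [DecidableEq ι]
  {Q : QuadraticForm F (ι → F)}

theorem finite_OG {F V : Type*} [Field F] [AddCommGroup V] [Module F V] [Finite V] (Q : QuadraticForm F V) :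
    Finite (OG Q) :=
  Finite.of_injective (fun (g : OG Q) (v : V) => g.1 v) fun _ _ e => OG.ext (congrFun e)

theorem avg_eq_one {G : Type*} [Group G] [Finite G] {z : ℂ} (h : z = Nat.card G) : (Nat.card G : ℂ)⁻¹ * z = 1 := by
  rw [h, inv_mul_cancel₀ natCard_ne_zero]

theorem og_ind (hQ : (polarBilin Q).Nondegenerate) {χ : isometryGroup F ⇑Q → ℂ}
    (hχ : IsIrrCharacter (isometryGroup F ⇑Q) χ) : ∑ᶠ g, χ (g * g) = Nat.card (isometryGroup F ⇑Q) := by
  have := finite_OG Q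
  have := Finite.of_equiv _ (toOG Q).symm.toEquiv
  refine NQ.ind_one ((nq_stab hQ (v := 0) (Or.inl rfl)).of_surj ((toOG Q).symm.toMonoidHom.comp (Subgroup.subtype _))
    fun g => ⟨⟨toOG Q g, map_zero (toOG Q g).1⟩, (toOG Q).symm_apply_apply g⟩) (fun g => ?_) hχ
  obtain ⟨t, ht⟩ := real_og hQ (toOG Q g)
  exact ⟨(toOG Q).symm t, (toOG Q).injective (by simpa using ht)⟩

theorem og_avg (hQ : (polarBilin Q).Nondegenerate) (χ : IrrCharacter (isometryGroup F ⇑Q)) :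
    (Nat.card (isometryGroup F ⇑Q) : ℂ)⁻¹ * ∑ᶠ g, χ.1 (g * g) = 1 := by
  have := finite_OG Q
  have := Finite.of_equiv _ (toOG Q).symm.toEquiv
  exact avg_eq_one (og_ind hQ χ.2)

theorem omega_avg (hQ : (polarBilin Q).Nondegenerate) (h4 : 4 ∣ Fintype.card ι) (h8 : Fintype.card ι ≠ 4)
    (χ : IrrCharacter (Omega F ⇑Q)) : (Nat.card (Omega F ⇑Q) : ℂ)⁻¹ * ∑ᶠ g, χ.1 (g * g) = 1 := by
  have := finite_OG Q
  have := Finite.of_equiv _ (toOG Q).symm.toEquiv
  have h24 : Nat.card F ≠ 2 ∨ Module.finrank F (ι → F) ≠ 4 := Or.inr (by rwa [Module.finrank_fintype_fun_eq_card])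
  have hm : ∀ g, g ∈ Omega F ⇑Q ↔ dickson hQ h24 (toOG Q g) = 1 := fun g => by
    rw [mem_Omega_iff, mem_commutator_iff_of_charTwo hQ h24 CharTwo.two_eq_zero]
  have e : ((dickson hQ h24).comp (toOG Q).toMonoidHom).ker = Omega F ⇑Q := Subgroup.ext fun g => (hm g).symm
  refine avg_eq_one (NQ.ind_one (e ▸ nq_ker _ fun χ hχ => og_ind hQ hχ) (fun g => ?_) χ.2)
  obtain ⟨t, h1, ht⟩ := real_omega hQ h24 (by rwa [Module.finrank_fintype_fun_eq_card]) (toOG Q g)
  exact ⟨⟨(toOG Q).symm t, (hm _).2 (by simpa using h1)⟩, Subtype.ext ((toOG Q).injective (by simpa using ht))⟩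

end CfsgLib.FsTw
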